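import Cfsg.Agent.Lib.FusionSystem.CompTheory.CentralProduct

/-! Existence and saturation of central products. -/

set_option autoImplicit false

namespace CfsgLib.Fsys.CompT

open Cfsg Cfsg.FusionSystem CfsgLib.Fsys.WNR
open Cfsg.FusionSystem (centralizerIn normalizerIn imageAlong preimageAlong)

universe u

variable {Ω : Type u} [Group Ω] {T₁ T₂ U : Subgroup Ω} {E₁ : FusionSystem T₁} {E₂ : FusionSystem T₂}
  {D : FusionSystem U}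

/-- Commuting systems meeting centrally have a central product. -/
theorem exists_centralProduct [Finite T₁] [Finite T₂] (hcomm : ∀ x ∈ T₁, ∀ y ∈ T₂, x * y = y * x)
    (h₁ : T₁ ⊓ T₂ ≤ E₁.center) (h₂ : T₁ ⊓ T₂ ≤ E₂.center) :
    ∃ D : FusionSystem (T₁ ⊔ T₂), IsCentralProductOf E₁ E₂ D := by
  haveI : Finite (T₁.prod T₂) := finite_prod
  let θ : ↥(T₁.prod T₂) →* Ω := MonoidHom.mk' (fun w => (w : Ω × Ω).1 * (w : Ω × Ω).2) fun a b => by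
    show (a : Ω × Ω).1 * (b : Ω × Ω).1 * ((a : Ω × Ω).2 * (b : Ω × Ω).2) = _
    rw [mul_assoc, ← mul_assoc (b : Ω × Ω).1, hcomm _ (Subgroup.mem_prod.1 b.2).1 _ (Subgroup.mem_prod.1 a.2).2,
      mul_assoc, ← mul_assoc (a : Ω × Ω).1]
  set Z : Subgroup (Ω × Ω) := θ.ker.map (T₁.prod T₂).subtype with hZ
  have hmem : ∀ {w : Ω × Ω}, w ∈ Z → w ∈ T₁.prod T₂ ∧ w.1 * w.2 = 1 := fun {w} hw => by
    obtain ⟨s, hs, rfl⟩ := hw
    exact ⟨s.2, hs⟩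
  have hpair : ∀ {w : Ω × Ω}, w ∈ Z → w.1 ∈ T₁ ⊓ T₂ ∧ w.2 ∈ T₁ ⊓ T₂ := fun {w} hw => by
    obtain ⟨hw', he⟩ := hmem hw
    obtain ⟨hx, hy⟩ := Subgroup.mem_prod.1 hw'
    exact ⟨⟨hx, eq_inv_of_mul_eq_one_left he ▸ T₂.inv_mem hy⟩,
      eq_inv_of_mul_eq_one_right he ▸ T₁.inv_mem hx, hy⟩
  have hcent : Z ≤ (prodSystem E₁ E₂).center := by
    refine le_center (central_iff_fn.2 ⟨fun w hw => (hmem hw).1, fun P f hf => ?_⟩)
    obtain ⟨f₁, f₂, k₁, k₂, k⟩ := fn_prod_inv hf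
    obtain ⟨ψ₁, hψ₁, hψ₁f, hψ₁Z⟩ := (central_iff_fn.1 (center_central (F := E₁))).2 _ f₁ k₁
    obtain ⟨ψ₂, hψ₂, hψ₂f, hψ₂Z⟩ := (central_iff_fn.1 (center_central (F := E₂))).2 _ f₂ k₂
    refine ⟨pairFn ψ₁ ψ₂, fn_prod (sup_le hf.le fun w hw => (hmem hw).1) (hψ₁.mono ?_) (hψ₂.mono ?_),
      fun w hw => ?_, fun w hw => Prod.ext (hψ₁Z _ (h₁ (hpair hw).1)) (hψ₂Z _ (h₂ (hpair hw).2))⟩
    · rw [Subgroup.map_sup]
      exact sup_le_sup le_rfl (by rintro _ ⟨w, hw, rfl⟩; exact h₁ (hpair hw).1)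
    · rw [Subgroup.map_sup]
      exact sup_le_sup le_rfl (by rintro _ ⟨w, hw, rfl⟩; exact h₂ (hpair hw).2)
    · rw [k w hw]
      exact Prod.ext (hψ₁f _ (fst_mem hw)) (hψ₂f _ (snd_mem hw))
  have hsc : (prodSystem E₁ E₂).StronglyClosed Z :=
    stronglyClosed_iff_fn.2 ⟨fun w hw => (hmem hw).1, fun P f hf x hx hxZ => by
      rw [fn_fix_center hf hx (hcent hxZ)]
      exact hxZ⟩
  have hr : θ.range = T₁ ⊔ T₂ := by
    refine le_antisymm ?_ (sup_le (fun x hx => ?_) fun y hy => ?_)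
    · rintro _ ⟨w, rfl⟩
      exact Subgroup.mul_mem_sup (Subgroup.mem_prod.1 w.2).1 (Subgroup.mem_prod.1 w.2).2
    · exact ⟨⟨(x, 1), Subgroup.mem_prod.2 ⟨hx, one_mem _⟩⟩, mul_one x⟩
    · exact ⟨⟨(1, y), Subgroup.mem_prod.2 ⟨one_mem _, hy⟩⟩, one_mul y⟩
  have hk : ∀ s : T₁.prod T₂, θ s = 1 ↔ (s : Ω × Ω) ∈ Z :=
    fun s => ⟨fun h => ⟨s, h, rfl⟩, fun ⟨s', hs', e⟩ => Subtype.ext (e : (s' : Ω × Ω) = s) ▸ hs'⟩
  obtain ⟨D, hD⟩ := exists_factorSystem hsc θ hk hr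
  refine ⟨D, prodSystem E₁ E₂, prodSystem_isProductSystem E₁ E₂, Z, θ, hcent, ?_, ?_,
      fun x hx => mul_one x, fun y hy => one_mul y, hD⟩
  · refine le_bot_iff.1 fun w hw => ?_
    have h := Subgroup.mem_bot.1 (Subgroup.mem_prod.1 hw.2).2
    have := (hmem hw.1).2
    rw [h, mul_one] at this
    exact Subgroup.mem_bot.2 (Prod.ext this h)
  · refine le_bot_iff.1 fun w hw => ?_
    have h := Subgroup.mem_bot.1 (Subgroup.mem_prod.1 hw.2).1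
    have := (hmem hw.1).2
    rw [h, one_mul] at this
    exact Subgroup.mem_bot.2 (Prod.ext h this)

/-- A central product of saturated systems is saturated. -/
theorem cp_saturated {p : ℕ} [Fact p.Prime] [Finite T₁] [Finite T₂] (hp₁ : IsPGroup p T₁) (hp₂ : IsPGroup p T₂)
    (h₁ : E₁.IsSaturated p) (h₂ : E₂.IsSaturated p) (h : IsCentralProductOf E₁ E₂ D) : D.IsSaturated p := by
  obtain ⟨D₀, hD₀, Z, θ, hZ, -, -, -, -, hfac⟩ := h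
  rw [eq_prodSystem hD₀] at hfac hZ
  haveI : Finite (T₁.prod T₂) := finite_prod
  have hsc : (prodSystem E₁ E₂).StronglyClosed Z :=
    stronglyClosed_iff_fn.2 ⟨hfac.1, fun P f hf x hx hxZ => by
      rw [fn_fix_center hf hx (hZ hxZ)]
      exact hxZ⟩
  have hp := isPGroup_prod hp₁ hp₂
  have hs := isSaturated_prodSystem hp₁ hp₂ h₁ h₂
  exact surjectiveMorphism_saturated hp hs (factor_surjectiveMorphism hp hs hsc hfac)

namespace CPData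

variable (h : CPData E₁ E₂ D)
include h

theorem base_eq : U = T₁ ⊔ T₂ := by
  refine le_antisymm (fun z hz => ?_) (sup_le h.left_le h.right_le)
  obtain ⟨x, hx, y, hy, rfl⟩ := h.decomp z hz
  exact Subgroup.mul_mem_sup hx hy

/-- The first factor is a subsystem, if the intersection of the bases is central in it. -/
theorem sub_left [Finite T₁] (h₁ : T₁ ⊓ T₂ ≤ E₁.center) : E₁.IsSubsystemOf D := by
  intro P φ hφ
  have hf := fn_ofHom hφ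
  obtain ⟨ψ, hψ, hψf, hψW⟩ := (central_iff_fn.1 (center_central (F := E₁))).2 P _ hf
  have hdom : ∀ x ∈ T₁, ∀ y ∈ T₂, x * y ∈ P → x ∈ P ⊔ (T₁ ⊓ T₂) ∧ y ∈ T₁ ⊓ T₂ := fun x hx y hy hxy => by
    have hy' : y ∈ T₁ ⊓ T₂ := ⟨by simpa using T₁.mul_mem (T₁.inv_mem hx) (hf.le hxy), hy⟩
    refine ⟨?_, hy'⟩
    simpa using (P ⊔ (T₁ ⊓ T₂)).mul_mem (Subgroup.mem_sup_left hxy) (Subgroup.inv_mem _ (Subgroup.mem_sup_right hy'))
  obtain ⟨f, hfD, hfe⟩ := h.intro P _ (T₁ ⊓ T₂) ψ id (hf.le.trans h.left_le) (hψ.mono (sup_le_sup_left h₁ P))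
    (fn_id (F := E₂) inf_le_right) hdom
  refine mem_hom_of_fn hfD fun z => ?_
  have h1 := hfe z (hf.le z.2) 1 (one_mem _) (by rw [mul_one]; exact z.2)
  rw [mul_one, id_eq, mul_one] at h1
  rw [h1, hψf z z.2, ofHom_coe]

/-- A central product of centralizing subsystems is a subsystem. -/
theorem sub_of_fixesBy {S : Subgroup Ω} {F : FusionSystem S} (hc₁ : FixesBy F E₁ T₂) (hc₂ : FixesBy F E₂ T₁) :
    D.IsSubsystemOf F := by
  intro P φ hφ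
  obtain ⟨hP, P₁, P₂, f₁, f₂, h₁, h₂, hfe⟩ := h.elim P _ (fn_ofHom hφ)
  obtain ⟨ψ₁, hψ₁, hψ₁f, hψ₁T⟩ := hc₁ P₁ f₁ h₁
  obtain ⟨ψ₂, hψ₂, hψ₂f, hψ₂T⟩ := hc₂ P₂ f₂ h₂
  have hcomp : Fn F (P₁ ⊔ P₂) (ψ₂ ∘ ψ₁) :=
    (hψ₁.mono (sup_le_sup_left h₂.le P₁)).comp hψ₂ fun x hx => by
      have h3 := mem_img_of_mem (f := ψ₁) hx
      rw [(hψ₁.mono (sup_le_sup_left h₂.le P₁)).img_sup] at h3
      exact (sup_le ((img_le fun y hy => (hψ₁f y hy).symm ▸ h₁.mem hy).trans le_sup_right)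
        ((img_le fun y hy => (hψ₁T y (h₂.le hy)).symm ▸ hy).trans le_sup_left) : _ ≤ P₂ ⊔ T₁) h3
  have hle : P ≤ P₁ ⊔ P₂ := fun z hz => by
    obtain ⟨x, hx, y, hy, rfl⟩ := h.decomp z (hP hz)
    exact Subgroup.mul_mem_sup (hfe x hx y hy hz).1 (hfe x hx y hy hz).2.1
  refine mem_hom_of_fn (hcomp.mono hle) fun z => ?_
  obtain ⟨x, hx, y, hy, e⟩ := h.decomp z (hP z.2)
  obtain ⟨hx', hy', hval⟩ := hfe x hx y hy (e.symm ▸ z.2)
  rw [← ofHom_coe φ z, ← e, hval]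
  show _ = ψ₂ (ψ₁ (x * y))
  rw [hψ₁.map_mul (Subgroup.mem_sup_left hx') (Subgroup.mem_sup_right hy), hψ₁f x hx', hψ₁T y hy,
    hψ₂.map_mul (Subgroup.mem_sup_right (h₁.mem hx')) (Subgroup.mem_sup_left hy'), hψ₂T _ (h₁.mem hx'),
    hψ₂f y hy']

end CPData

end CfsgLib.Fsys.CompT
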