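import Cfsg.Agent.Lib.FusionSystem.CompTheory.Commute
import Cfsg.Agent.Lib.FusionSystem.Product

/-! Central products: their maps, their factors as normal subsystems, their components. -/

set_option autoImplicit false

namespace CfsgLib.Fsys.CompT

open Cfsg Cfsg.FusionSystem CfsgLib.Fsys.WNR
open Cfsg.FusionSystem (centralizerIn normalizerIn imageAlong preimageAlong)

universe u

variable {Ω : Type u} [Group Ω] {T₁ T₂ U : Subgroup Ω} {E₁ : FusionSystem T₁} {E₂ : FusionSystem T₂}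
  {D : FusionSystem U}

/-- The description of the maps of a central product. -/
structure CPData (E₁ : FusionSystem T₁) (E₂ : FusionSystem T₂) (D : FusionSystem U) : Prop where
  left_le : T₁ ≤ U
  right_le : T₂ ≤ U
  decomp : ∀ z ∈ U, ∃ x ∈ T₁, ∃ y ∈ T₂, x * y = z
  commute : ∀ x ∈ T₁, ∀ y ∈ T₂, x * y = y * x
  elim : ∀ (P : Subgroup Ω) (f : Ω → Ω), Fn D P f → P ≤ U ∧ ∃ (P₁ P₂ : Subgroup Ω) (f₁ f₂ : Ω → Ω),
    Fn E₁ P₁ f₁ ∧ Fn E₂ P₂ f₂ ∧
      ∀ x ∈ T₁, ∀ y ∈ T₂, x * y ∈ P → x ∈ P₁ ∧ y ∈ P₂ ∧ f (x * y) = f₁ x * f₂ y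
  intro : ∀ (P P₁ P₂ : Subgroup Ω) (f₁ f₂ : Ω → Ω), P ≤ U → Fn E₁ P₁ f₁ → Fn E₂ P₂ f₂ →
    (∀ x ∈ T₁, ∀ y ∈ T₂, x * y ∈ P → x ∈ P₁ ∧ y ∈ P₂) →
      ∃ f, Fn D P f ∧ ∀ x ∈ T₁, ∀ y ∈ T₂, x * y ∈ P → f (x * y) = f₁ x * f₂ y

theorem CPData.symm (h : CPData E₁ E₂ D) : CPData E₂ E₁ D where
  left_le := h.right_le
  right_le := h.left_le
  decomp z hz := by
    obtain ⟨x, hx, y, hy, e⟩ := h.decomp z hz
    exact ⟨y, hy, x, hx, (h.commute x hx y hy).symm.trans e⟩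
  commute x hx y hy := (h.commute y hy x hx).symm
  elim P f hf := by
    obtain ⟨hP, P₁, P₂, f₁, f₂, h₁, h₂, hfe⟩ := h.elim P f hf
    refine ⟨hP, P₂, P₁, f₂, f₁, h₂, h₁, fun y hy x hx hyx => ?_⟩
    obtain ⟨hx', hy', e⟩ := hfe x hx y hy ((h.commute x hx y hy).symm ▸ hyx)
    exact ⟨hy', hx', by rw [← h.commute x hx y hy, e, h.commute _ (h₁.mem hx') _ (h₂.mem hy')]⟩
  intro P P₂ P₁ f₂ f₁ hP h₂ h₁ hdom := by
    obtain ⟨f, hf, hfe⟩ := h.intro P P₁ P₂ f₁ f₂ hP h₁ h₂ fun x hx y hy hxy =>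
      (hdom y hy x hx (h.commute x hx y hy ▸ hxy)).symm
    refine ⟨f, hf, fun y hy x hx hyx => ?_⟩
    have hxy : x * y ∈ P := (h.commute x hx y hy).symm ▸ hyx
    have hd := hdom y hy x hx hyx
    rw [← h.commute x hx y hy, hfe x hx y hy hxy, h.commute _ (h₁.mem hd.2) _ (h₂.mem hd.1)]

theorem cpData [Finite T₁] [Finite T₂] (h : IsCentralProductOf E₁ E₂ D) : CPData E₁ E₂ D := by
  classical
  obtain ⟨D₀, hD₀, Z, θ, hZ, -, -, h1, h2, hfac⟩ := h
  rw [eq_prodSystem hD₀] at hfac hZ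
  haveI : Finite (T₁.prod T₂) := finite_prod
  have hsc : (prodSystem E₁ E₂).StronglyClosed Z :=
    stronglyClosed_iff_fn.2 ⟨hfac.1, fun P f hf x hx hxZ => by
      rw [fn_fix_center hf hx (hZ hxZ)]
      exact hxZ⟩
  have hmem : ∀ {x y : Ω}, x ∈ T₁ → y ∈ T₂ → ((x, y) : Ω × Ω) ∈ T₁.prod T₂ := fun hx hy => Subgroup.mem_prod.2 ⟨hx, hy⟩
  have hθ : ∀ (x y : Ω) (hm : ((x, y) : Ω × Ω) ∈ T₁.prod T₂), θ ⟨(x, y), hm⟩ = x * y := fun x y hm => by
    have hx := hmem (Subgroup.mem_prod.1 hm).1 T₂.one_mem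
    have hy := hmem T₁.one_mem (Subgroup.mem_prod.1 hm).2
    refine Eq.trans ?_ (congrArg₂ (· * ·) (h1 x hx) (h2 y hy))
    show _ = θ _ * θ _
    rw [← map_mul]
    congr 1
    exact Subtype.ext (by simp)
  have hth : ∀ {x y : Ω}, x ∈ T₁ → y ∈ T₂ → th θ ((x, y) : Ω × Ω) = x * y := fun hx hy => by
    rw [th_apply (hmem hx hy)]
    exact hθ _ _ _
  have hU : ∀ {z : Ω}, z ∈ U ↔ ∃ x ∈ T₁, ∃ y ∈ T₂, x * y = z := fun {z} => by
    rw [← factor_range hfac]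
    constructor
    · rintro ⟨⟨⟨x, y⟩, hm⟩, rfl⟩
      exact ⟨x, (Subgroup.mem_prod.1 hm).1, y, (Subgroup.mem_prod.1 hm).2, (hθ x y hm).symm⟩
    · rintro ⟨x, hx, y, hy, rfl⟩
      exact ⟨⟨_, hmem hx hy⟩, hθ x y _⟩
  refine ⟨fun x hx => hU.2 ⟨x, hx, 1, one_mem _, mul_one x⟩, fun y hy => hU.2 ⟨1, one_mem _, y, hy, one_mul y⟩,
    fun z hz => hU.1 hz, fun x hx y hy => ?_, fun P f hf => ?_, fun P P₁ P₂ f₁ f₂ hP he₁ he₂ hdom => ?_⟩
  · have h3 : (⟨_, hmem T₁.one_mem hy⟩ * ⟨_, hmem hx T₂.one_mem⟩ : T₁.prod T₂) = ⟨_, hmem hx hy⟩ :=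
      Subtype.ext (by simp)
    have h4 := congrArg θ h3
    rw [map_mul, hθ, hθ, hθ, one_mul, mul_one] at h4
    exact h4.symm
  · obtain ⟨hP, F₀, hF₀, hfe⟩ := (factor_fn hsc hfac).1 hf
    obtain ⟨f₁, f₂, h₁, h₂, hF⟩ := fn_prod_inv hF₀
    refine ⟨hP, _, _, f₁, f₂, h₁, h₂, fun x hx y hy hxy => ?_⟩
    have hm : ((x, y) : Ω × Ω) ∈ preimageAlong θ P :=
      mem_preimageAlong.2 ⟨hmem hx hy, (hth hx hy).symm ▸ hxy⟩
    refine ⟨fst_mem hm, snd_mem hm, ?_⟩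
    have h3 := hfe _ hm
    rw [hth hx hy, hF _ hm] at h3
    rw [h3]
    exact hth (h₁.mem (fst_mem hm)) (h₂.mem (snd_mem hm))
  · have hle : preimageAlong θ P ≤ T₁.prod T₂ := preimageAlong_le
    have hsplit : ∀ {w : Ω × Ω}, w ∈ preimageAlong θ P → w.1 ∈ P₁ ∧ w.2 ∈ P₂ := fun {w} hw => by
      obtain ⟨hm, hP'⟩ := mem_preimageAlong.1 hw
      obtain ⟨x, y⟩ := w
      rw [hth (Subgroup.mem_prod.1 hm).1 (Subgroup.mem_prod.1 hm).2] at hP'
      exact hdom x (Subgroup.mem_prod.1 hm).1 y (Subgroup.mem_prod.1 hm).2 hP'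
    have h₁ : Fn E₁ ((preimageAlong θ P).map (MonoidHom.fst Ω Ω)) f₁ := he₁.mono (by
      rintro _ ⟨w, hw, rfl⟩; exact (hsplit hw).1)
    have h₂ : Fn E₂ ((preimageAlong θ P).map (MonoidHom.snd Ω Ω)) f₂ := he₂.mono (by
      rintro _ ⟨w, hw, rfl⟩; exact (hsplit hw).2)
    set F₀ : Ω × Ω → Ω × Ω := pairFn f₁ f₂ with hF₀
    have hF : Fn (prodSystem E₁ E₂) (preimageAlong θ P) F₀ := fn_prod hle h₁ h₂
    choose dx hdx dy hdy hd using fun z : U => hU.1 z.2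
    refine ⟨fun z => if hz : z ∈ U then th θ (F₀ (dx ⟨z, hz⟩, dy ⟨z, hz⟩)) else 1, ?_, ?_⟩
    all_goals
      have key : ∀ w ∈ preimageAlong θ P,
          (if hz : th θ w ∈ U then th θ (F₀ (dx ⟨th θ w, hz⟩, dy ⟨th θ w, hz⟩)) else 1) = th θ (F₀ w) := by
        intro w hw
        obtain ⟨hwS, hwP⟩ := mem_preimageAlong.1 hw
        rw [dif_pos (hP hwP)]
        set z : U := ⟨th θ w, hP hwP⟩ with hz
        set v : Ω × Ω := (dx z, dy z) with hv
        have hvS : v ∈ T₁.prod T₂ := hmem (hdx z) (hdy z)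
        have hvw : th θ v = th θ w := (hth (hdx z) (hdy z)).trans (hd z)
        have hvP : v ∈ preimageAlong θ P := mem_preimageAlong.2 ⟨hvS, hvw.symm ▸ hwP⟩
        have hq : v * w⁻¹ ∈ Z := (factor_ker hfac ((T₁.prod T₂).mul_mem hvS ((T₁.prod T₂).inv_mem hwS))).1
          (by rw [th_mul hvS ((T₁.prod T₂).inv_mem hwS), th_inv hwS, hvw, mul_inv_cancel])
        have h5 := (factor_ker hfac (hF.mem (mul_mem hvP (inv_mem hw)))).2
          (sc_apply hsc hF (mul_mem hvP (inv_mem hw)) hq)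
        rw [hF.map_mul hvP (inv_mem hw), hF.map_inv hw, th_mul (hF.mem hvP) ((T₁.prod T₂).inv_mem (hF.mem hw)),
          th_inv (hF.mem hw), mul_inv_eq_one] at h5
        exact h5
    · exact (factor_fn hsc hfac).2 ⟨hP, F₀, hF, key⟩
    · intro x hx y hy hxy
      have hm : ((x, y) : Ω × Ω) ∈ preimageAlong θ P :=
        mem_preimageAlong.2 ⟨hmem hx hy, (hth hx hy).symm ▸ hxy⟩
      have h6 := key _ hm
      rw [hth hx hy] at h6
      refine h6.trans ?_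
      show th θ (f₁ x, f₂ y) = _
      exact hth (h₁.mem (fst_mem hm)) (h₂.mem (snd_mem hm))

namespace CPData

variable (h : CPData E₁ E₂ D)
include h

/-- A map of the product on a subgroup of a factor is a map of the factor. -/
theorem fn_left {P : Subgroup Ω} {f : Ω → Ω} (hf : Fn D P f) (hP : P ≤ T₁) : Fn E₁ P f := by
  obtain ⟨-, P₁, P₂, f₁, f₂, h₁, h₂, hfe⟩ := h.elim P f hf
  have hx : ∀ x ∈ P, x ∈ P₁ ∧ f x = f₁ x := fun x hx => by
    obtain ⟨hx', -, e⟩ := hfe x (hP hx) 1 (one_mem _) (by rwa [mul_one])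
    rw [mul_one, h₂.map_one, mul_one] at e
    exact ⟨hx', e⟩
  exact (h₁.mono fun x hxP => (hx x hxP).1).congr fun x hxP => (hx x hxP).2.symm

theorem sc_left : D.StronglyClosed T₁ := by
  refine stronglyClosed_iff_fn.2 ⟨h.left_le, fun P f hf x hx hxT => ?_⟩
  obtain ⟨-, P₁, P₂, f₁, f₂, h₁, h₂, hfe⟩ := h.elim P f hf
  obtain ⟨hx', -, e⟩ := hfe x hxT 1 (one_mem _) (by rwa [mul_one])
  rw [mul_one, h₂.map_one, mul_one] at e
  rw [e]
  exact h₁.mem hx'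

variable {p : ℕ}

/-- A factor of a central product is normal in it. -/
theorem normal_left [Finite U] (h₁ : E₁.IsSaturated p) (hD : D.IsSaturated p) (hsub : E₁.IsSubsystemOf D) :
    E₁.IsNormalIn D p := by
  haveI := finite_of_le_base h.left_le
  refine ⟨⟨h₁, hD, Meet.invariant_of_fn hsub h.sc_left ?_ fun {P f} hP hf => ?_⟩, fun α hα => ?_⟩
  · intro P g α hg hα
    have hα' := (mem_autGroup_iff_fn h.left_le).1 hα
    have hle : img (autFn α) P ≤ T₁ := img_le fun x hx => autFn_mem α (hg.le hx)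
    have hαi : Fn D (img (autFn α) P) (autFn α⁻¹) := ((mem_autGroup_iff_fn h.left_le).1 (inv_mem hα)).mono hle
    have hmem : ∀ y ∈ img (autFn α) P, autFn α⁻¹ y ∈ P := fun y hy => by
      obtain ⟨x, hx, rfl⟩ := (hα'.mono hg.le).mem_img.1 hy
      rwa [autFn_inv_apply α (hg.le hx)]
    refine ⟨autFn α ∘ (g ∘ autFn α⁻¹), h.fn_left ((hαi.comp (hg.of_subsystem hsub) hmem).comp hα'
      fun y hy => hg.mem (hmem y hy)) hle, fun x hx => ?_⟩
    show autFn α (g (autFn α⁻¹ (autFn α x))) = _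
    rw [autFn_inv_apply α (hg.le hx)]
  · have hf' := h.fn_left hf hP
    exact ⟨1, one_mem _, f, hf', fun x hx => (autFn_id (hf'.mem hx)).symm⟩
  · have hVU : T₁ ⊔ centralizerIn U T₁ ≤ U := sup_le h.left_le centralizerIn_le
    obtain ⟨f, hf, hfe⟩ := h.intro U T₁ T₂ (autFn α) id le_rfl ((mem_autGroup_iff_fn le_rfl).1 hα)
      (fn_id le_rfl) fun x hx y hy _ => ⟨hx, hy⟩
    haveI := finite_of_le_base hVU
    have hfT : ∀ x ∈ T₁, f x = autFn α x := fun x hx => by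
      have := hfe x hx 1 (one_mem _) (by rw [mul_one]; exact h.left_le hx)
      rwa [mul_one, id_eq, mul_one] at this
    have hT : img f T₁ = T₁ := (img_congr hfT).trans (img_autFn α)
    have hV : img f (T₁ ⊔ centralizerIn U T₁) = T₁ ⊔ centralizerIn U T₁ := by
      refine (hf.mono hVU).img_eq_self fun x hx => ?_
      have h1 := mem_img_of_mem (f := f) hx
      rw [(hf.mono hVU).img_sup, hT] at h1
      exact sup_le_sup le_rfl (img_le fun c hc => hf.map_centralizer h.left_le hT (centralizerIn_le hc) hc) h1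
    obtain ⟨β, hβ, hβe⟩ := exists_aut_of_fn (hf.mono hVU) hV
    refine ⟨β, hβ, fun x => ?_, fun c hc => ?_⟩
    · rw [hβe, ← autFn_coe]
      exact hfT x x.2
    · obtain ⟨x, hx, y, hy, e⟩ := h.decomp c hc.1
      have hxZ : x ∈ Subgroup.centralizer (T₁ : Set Ω) := by
        have hy' : y ∈ Subgroup.centralizer (T₁ : Set Ω) :=
          Subgroup.mem_centralizer_iff.2 fun t ht => h.commute t ht y hy
        have h1 := Subgroup.mul_mem _ hc.2 (Subgroup.inv_mem _ hy')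
        rwa [← e, mul_inv_cancel_right] at h1
      have hαx : autFn α x ∈ Subgroup.centralizer (T₁ : Set Ω) := by
        rw [← hfT x hx]
        exact (hf.map_centralizer h.left_le hT (h.left_le hx) ⟨h.left_le hx, hxZ⟩).2
      have hm : x⁻¹ * autFn α x ∈ T₁ := T₁.mul_mem (T₁.inv_mem hx) (autFn_mem α hx)
      rw [hβe c, ← e, hfe x hx y hy (e.symm ▸ hc.1), id_eq,
        show (x * y)⁻¹ * (autFn α x * y) = y⁻¹ * (x⁻¹ * autFn α x * y) by group,
        h.commute _ hm y hy, inv_mul_cancel_left]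
      exact ⟨hm, Subgroup.mul_mem _ (Subgroup.inv_mem _ hxZ) hαx⟩

/-- A component of a central product is a component of a factor. -/
theorem component [Fact p.Prime] [Finite U] (hU : IsPGroup p U) (hD : D.IsSaturated p) (h₁ : E₁.IsSaturated p)
    (h₂ : E₂.IsSaturated p) (hsub₁ : E₁.IsSubsystemOf D) (hsub₂ : E₂.IsSubsystemOf D) {V : Subgroup Ω}
    {C : FusionSystem V} (hC : C.IsComponentIn D p) : C.IsComponentIn E₁ p ∨ C.IsComponentIn E₂ p := by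
  rcases component_or_centralizes hU hD hC (h.normal_left h₁ hD hsub₁) with hl | ⟨hl, -, -⟩
  · exact Or.inl hl
  rcases component_or_centralizes hU hD hC (h.symm.normal_left h₂ hD hsub₂) with hr | ⟨hr, -, -⟩
  · exact Or.inr hr
  have hVU : V ≤ U := (CoreLayer.subnormal_le hC.1).2
  haveI := finite_of_le_base hVU
  refine absurd ⟨⟨fun a b => Subtype.ext ?_⟩⟩ (quasisimple_nonabelian (hU.to_le hVU) hC.2)
  obtain ⟨x, hx, y, hy, e⟩ := h.decomp a (hVU a.2)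
  show (a : Ω) * b = b * a
  rw [← e, mul_assoc, (mem_centralizerIn.1 (hr b.2)).2 y hy, ← mul_assoc,
    (mem_centralizerIn.1 (hl b.2)).2 x hx, mul_assoc]

end CPData

end CfsgLib.Fsys.CompT
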