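import Cfsg.Agent.Lib.FusionSystem.CompTheory.Displacement

/-! A component commutes with the normal subsystems meeting it centrally. -/

set_option autoImplicit false

namespace CfsgLib.Fsys.CompT

open Cfsg Cfsg.FusionSystem CfsgLib.Fsys.WNR CfsgLib.Fsys.CoreLayer
open Cfsg.FusionSystem (centralizerIn normalizerIn)

universe u

variable {Ω : Type u} [Group Ω] {p : ℕ} [Fact p.Prime]

/-- A subsystem is centralized if each of its maps extends to the subgroup fixing it. -/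
def FixesBy {V U : Subgroup Ω} (G : FusionSystem V) (C : FusionSystem U) (Q : Subgroup Ω) : Prop :=
  ∀ (P : Subgroup Ω) (f : Ω → Ω), Fn C P f →
    ∃ ψ, Fn G (P ⊔ Q) ψ ∧ (∀ x ∈ P, ψ x = f x) ∧ ∀ x ∈ Q, ψ x = x

/-- A subsystem equal to its residual and centralizing `Q` is fixed by the subsystems over `Q`. -/
theorem le_fixed_of_centralizing {V U Q : Subgroup Ω} [Finite V] {G : FusionSystem V} {C : FusionSystem U}
    {D : FusionSystem Q} (hV : IsPGroup p V) (hD : D.IsNormalIn G p) (hhyp : C.hyperfocalSubgroup p = U)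
    (hUQ : U ≤ centralizerIn V Q) (hext : FixesBy G C Q) : U ≤ fixedSubgroup p G D := by
  obtain ⟨DQ, hDQ⟩ := exists_centralizerSystem G hD.1.2.2.2.1.1 (Q := Q)
  refine le_trans ?_ (focal_le_fixedSubgroup hV hD hDQ)
  rw [← hhyp]
  refine (Subgroup.closure_le _).2 ?_
  rintro _ ⟨P, α, x, hP, -, rfl⟩
  obtain ⟨ψ, hψ, hψe, hψQ⟩ := hext P _ ((mem_autGroup_iff_fn hP).1 α.2)
  exact Subgroup.subset_closure ⟨P, P.subtype.comp (α : MulAut P).toMonoidHom, x,
    mem_hom_of_fn ((fn_centralizer_of_fix hDQ (hP.trans hUQ) hψ hψQ).congr hψe)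
      fun y => (autFn_coe (α : MulAut P) y).symm, rfl⟩

set_option maxHeartbeats 400000 in
/-- A subsystem of a normal subsystem fixing its intersection with `Q` centralizes `Q`. -/
theorem centralizes_of_step {U M T Q : Subgroup Ω} [Finite U] {G : FusionSystem U} {D : FusionSystem M}
    {C : FusionSystem T} (hU : IsPGroup p U) (hD : D.IsNormalIn G p) (hQ : G.StronglyClosed Q)
    (hWN : D.IsNormal (Q ⊓ M))
    (hfix : ∀ (P : Subgroup Ω) (f : Ω → Ω), Fn D P f → ∀ x ∈ P, x ∈ Q ⊓ M → f x = x)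
    (hCD : C.IsSubsystemOf D) (hCs : C.IsSaturated p)
    (hgen : C.hyperfocalSubgroup p = T ∨ T ≤ centralizerIn U Q) :
    T ≤ centralizerIn U Q ∧ FixesBy G C Q := by
  have hM := hD.1.2.2.2.1
  have hTM : T ≤ M := subsystem_le hCD
  have hTU : T ≤ U := hTM.trans hM.1
  haveI := finite_of_le_base hTU
  have hTp := hU.to_le hTU
  have hext : ∀ P (f : Ω → Ω), Fn C P f → ∃ u, Fn D (P ⊔ (Q ⊓ M)) u ∧ (∀ x ∈ P, u x = f x) ∧
      ∀ x ∈ Q ⊓ M, u x = x := fun P f hf => by
    obtain ⟨u, hu, hue, -⟩ := (normal_iff_fn.1 hWN).2 P f (hf.of_subsystem hCD)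
    exact ⟨u, hu, hue, fun x hx => hfix _ u hu x (Subgroup.mem_sup_right hx) hx⟩
  have hco : ∀ {P : Subgroup Ω} (hP : P ≤ T), ∀ a ∈ C.autGroup P, Nat.Coprime (orderOf a) p →
      a ∈ fixExt G Q P (sup_le (hP.trans hTU) hQ.1) := by
    intro P hP a ha hac
    obtain ⟨u, hu, hue, huR⟩ := hext P _ ((mem_autGroup_iff_fn hP).1 ha)
    obtain ⟨ψ, hψ, hψu, hψQ, hψd⟩ := disp_of_sc hU hD hQ hWN hfix hu
    set R := Q ⊓ M with hRdef
    have hle : P ⊔ Q ≤ P ⊔ R ⊔ Q := sup_le_sup le_sup_left le_rfl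
    have hψ' := hψ.mono hle
    have hVS : P ⊔ Q ≤ U := hψ'.le
    have hψP : ∀ x ∈ P, ψ x = autFn a x := fun x hx =>
      (hψu x (Subgroup.mem_sup_left hx)).trans (hue x hx)
    obtain ⟨β, hβ, hβe⟩ := exists_aut_of_fn hψ'
      (by rw [hψ'.img_sup, img_congr hψP, img_autFn, hψQ])
    have hβe' : ∀ x ∈ P ⊔ Q, autFn β x = ψ x := fun x hx => (autFn_coe β ⟨x, hx⟩).trans (hβe _)
    obtain ⟨n, hn, hnco⟩ := exists_coprime_pow (p := p) hVS (le_sup_left : P ≤ P ⊔ Q) (a := a)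
      (fun x hx => (hβe' x (Subgroup.mem_sup_left hx)).trans (hψP x hx)) hac
    have hβQ : ∀ x ∈ Q, autFn β x ∈ Q := fun x hx => by
      rw [hβe' x (Subgroup.mem_sup_right hx)]
      exact hψQ.le (mem_img_of_mem hx)
    have hβR : ∀ r ∈ R, autFn β r = r := fun r hr => by
      rw [hβe' r (Subgroup.mem_sup_right hr.1), hψu r (Subgroup.mem_sup_right hr), huR r hr]
    have hβd : ∀ x ∈ Q, x⁻¹ * autFn β x ∈ R := fun x hx =>
      (hβe' x (Subgroup.mem_sup_right hx)).symm ▸ hψd x hx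
    have hpow : ∀ j : ℕ, (∀ r ∈ R, autFn (β ^ j) r = r) ∧ ∀ x ∈ Q, x⁻¹ * autFn (β ^ j) x ∈ R := fun j => by
      induction j with
      | zero => exact ⟨fun r hr => by rw [pow_zero, autFn_id (Subgroup.mem_sup_right hr.1)], fun x hx => by
          rw [pow_zero, autFn_id (Subgroup.mem_sup_right hx), inv_mul_cancel]; exact R.one_mem⟩
      | succ j ihj =>
        refine ⟨fun r hr => by
          rw [pow_succ, autFn_mul _ _ (Subgroup.mem_sup_right hr.1), hβR r hr, ihj.1 r hr], fun x hx => ?_⟩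
        rw [pow_succ, autFn_mul _ _ (Subgroup.mem_sup_right hx)]
        have h1 := R.mul_mem (hβd x hx) (ihj.2 _ (hβQ x hx))
        rwa [mul_assoc, mul_inv_cancel_left] at h1
    refine ⟨autFn (β ^ n), (mem_autGroup_iff_fn hVS).1 (Subgroup.pow_mem _ hβ n), hn, fun x hx => ?_⟩
    have hd := (hpow n).2 x hx
    have h1 := disp_mem_of_coprime hU hVS bot_le hnco
      (fun r hr => by rw [Subgroup.mem_bot] at hr ⊢; rw [hr]
                      exact ((mem_autGroup_iff_fn hVS).1 (Subgroup.pow_mem _ hβ n)).map_one)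
      (fun v _ r hr => by simp_all) (Subgroup.mem_sup_right hx)
      (by rw [(hpow n).1 _ hd, inv_mul_cancel]; exact Subgroup.one_mem _)
    exact (inv_mul_eq_one.1 (Subgroup.mem_bot.1 h1)).symm
  have hres : ∀ {P : Subgroup Ω} (hP : P ≤ T) (a : C.autGroup P), a ∈ pResidual p (C.autGroup P) →
      (a : MulAut P) ∈ fixExt G Q P (sup_le (hP.trans hTU) hQ.1) := fun {P} hP a ha => by
    have hle : pResidual p (C.autGroup P) ≤
        (fixExt G Q P (sup_le (hP.trans hTU) hQ.1)).comap (C.autGroup P).subtype :=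
      (Subgroup.closure_le _).2 fun b hb => hco hP b b.2 (by rw [Subgroup.orderOf_coe]; exact hb)
    exact hle ha
  have hTK : T ≤ centralizerIn U Q := by
    rcases hgen with hhyp | h
    swap
    · exact h
    rw [← hhyp]
    refine (Subgroup.closure_le _).2 ?_
    rintro _ ⟨P, α, x, hP, hα, rfl⟩
    obtain ⟨ψ, hψ, hψP, hψQ⟩ := hres hP α hα
    refine mem_centralizerIn.2 ⟨U.mul_mem (U.inv_mem (hTU (hP x.2))) (hTU (hP ((α : MulAut P) x).2)),
      fun z hz => ?_⟩
    have hxU : (x : Ω) ∈ U := hTU (hP x.2)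
    have hz' := sc_conj hQ hxU hz
    have h1 := hψ.map_conj (Subgroup.mem_sup_left x.2) (Subgroup.mem_sup_right hz)
    rw [hψQ _ hz', hψP x x.2, autFn_coe, hψQ z hz] at h1
    calc z * ((x : Ω)⁻¹ * (((α : MulAut P) x : P) : Ω))
        = (x : Ω)⁻¹ * ((x : Ω) * z * (x : Ω)⁻¹) * (((α : MulAut P) x : P) : Ω) := by group
      _ = _ := by rw [h1]; group
  let D' : FusionSystem T := predSystem C
    (fun P f => ∃ ψ, Fn G (P ⊔ Q) ψ ∧ (∀ x ∈ P, ψ x = f x) ∧ ∀ x ∈ Q, ψ x = x)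
    (fun P f g he _ ⟨ψ, hψ, hψf, hψK⟩ => ⟨ψ, hψ, fun x hx => (hψf x hx).trans (he x hx), hψK⟩)
    (fun P hP s hs => ⟨_, fn_conj (sup_le (hP.trans hTU) hQ.1) (hTU hs), fun x _ => rfl, fun x hx => by
      show s * x * s⁻¹ = x
      rw [← (mem_centralizerIn.1 (hTK hs)).2 x hx, mul_inv_cancel_right]⟩)
    (fun P R f g hf hg hm ⟨ψ, hψ, hψf, hψK⟩ ⟨χ, hχ, hχg, hχK⟩ => by
      refine ⟨χ ∘ ψ, hψ.comp hχ fun x hx => ?_, fun x hx => ?_, fun x hx => ?_⟩
      · have h1 := mem_img_of_mem (f := ψ) hx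
        rw [hψ.img_sup] at h1
        exact sup_le_sup (img_le fun y hy => (hψf y hy).symm ▸ hm y hy)
          (img_le fun y hy => (hψK y hy).symm ▸ hy) h1
      · show χ (ψ x) = g (f x)
        rw [hψf x hx, hχg _ (hm x hx)]
      · show χ (ψ x) = x
        rw [hψK x hx, hχK x hx])
    (fun P f g hf hg hgf ⟨ψ, hψ, hψf, hψK⟩ => by
      obtain ⟨χ, hχ, hχψ, -⟩ := hψ.exists_inv
      rw [hψ.img_sup, img_congr hψf, (img_congr (g := id) hψK).trans (img_id Q)] at hχ
      refine ⟨χ, hχ, fun y hy => ?_, fun x hx => ?_⟩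
      · obtain ⟨x, hx, rfl⟩ := hf.mem_img.1 hy
        rw [hgf x hx, ← hψf x hx, hχψ x (Subgroup.mem_sup_left hx)]
      · conv_lhs => rw [← hψK x hx, hχψ x (Subgroup.mem_sup_right hx)])
  have haut : ∀ {P : Subgroup Ω}, P ≤ T → C.IsFullyAutomized p P → C.autGroup P ≤ D'.autGroup P := by
    intro P hP hA α hα
    obtain ⟨β, hβ, γ, hγ, rfl⟩ := exists_residual_decomp hTp hCs hA hα
    exact mul_mem ((mem_autGroup_iff_fn hP).2 (fn_predSystem.2
      ⟨(mem_autGroup_iff_fn hP).1 β.2, hres hP β hβ⟩)) (autInducedBy_le_autGroup hP hγ)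
  have hle : C ≤ D' := le_of_automizers hTp hCs D' (haut le_rfl (fullyAutomized_top hCs))
    fun P hP hPn _ => haut hP.le (fullyNormalized_good hTp hCs hPn).1
  exact ⟨hTK, fun P f hf => (fn_predSystem.1 (fn_of_le hle hf)).2⟩

set_option maxHeartbeats 400000 in
/-- A component centralizes each normal subsystem meeting it centrally. -/
theorem centralizes_of_subnormal {U V T : Subgroup Ω} {C : FusionSystem U} {G : FusionSystem V} {q : ℕ}
    (h : C.IsSubnormalIn G q) (hqp : q = p) (hfin : Finite V) (hV : IsPGroup p V) (hG : G.IsSaturated p)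
    (hC : C.Quasisimple p) {D : FusionSystem T} (hD : D.IsNormalIn G p) (hUT : U ⊓ T ≤ C.center) :
    U ≤ centralizerIn V T ∧ FixesBy G C T := by
  induction h generalizing T with
  | refl G q =>
    subst hqp
    have hTZ := fun t (ht : t ∈ T) => hUT ⟨hD.1.2.2.2.1.1 ht, ht⟩
    refine ⟨fun s hs => mem_centralizerIn.2 ⟨hs, fun x hx =>
      ((Subgroup.mem_centralizer_iff.1 (G.center_le_centralizer (hTZ x hx))) s hs).symm⟩, fun P f hf => ?_⟩
    obtain ⟨ψ, hψ, hψf, hψZ⟩ := (central_iff_fn.1 (center_central (F := G))).2 P f hf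
    exact ⟨ψ, hψ.mono (sup_le_sup_left hTZ P), hψf, fun x hx => hψZ x (hTZ x hx)⟩
  | @step W V C G₁ G q hCG hG₁ ih =>
    subst hqp
    have hsub := CoreLayer.subnormal_le hCG
    have hWV : W ≤ V := subsystem_le hG₁.1.2.2.1
    haveI := finite_of_le_base hWV
    have hT := hD.1.2.2.2.1
    have st : Meet.Setup G G₁ D q := ⟨hV, hG₁.1, hD.1⟩
    have hM := Meet.meetSys_normal_base st
    obtain ⟨hUM, hextM⟩ := ih rfl inferInstance (hV.to_le hWV) hG₁.1.1 hC (Meet.meetSys_normal_left st)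
      fun x hx => hUT ⟨hx.1, hx.2.2⟩
    have hUK := le_fixed_of_centralizing hV hM hC.2.1 (hUM.trans (inf_le_inf_right _ hWV)) fun P f hf => by
      obtain ⟨ψ, hψ, hψf⟩ := hextM P f hf
      exact ⟨ψ, hψ.of_subsystem hG₁.1.2.2.1, hψf⟩
    obtain ⟨H, hH, hHc⟩ := Red.exists_centralizer_normal hV hM
    have st₂ : Meet.Setup G G₁ H q := ⟨hV, hG₁.1, hH.1⟩
    have hG' := Meet.meetSys_normal_base st₂
    have hCG' := component_of_le hV ⟨IsSubnormalIn.step hCG hG₁, hC⟩ hG'.1 (le_inf hsub.2 hUK)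
    have hW' := hG'.1.2.2.2.1
    haveI := finite_of_le_base hW'.1
    have hfix : ∀ (P : Subgroup Ω) (f : Ω → Ω), Fn (Meet.meetSys st₂) P f →
        ∀ x ∈ P, x ∈ T ⊓ (W ⊓ fixedSubgroup q G (Meet.meetSys st)) → f x = x := by
      intro P f hf x hx hxW
      obtain ⟨φ, hφ, hφf⟩ := hf.of_subsystem (Meet.meetSys_sub_right st₂)
      obtain ⟨-, -, -, ψ, -, hψφ, hψX⟩ := hHc P hφ
      rw [← hφf ⟨x, hx⟩, ← hψφ ⟨x, hx⟩]
      exact hψX ⟨x, hxW.2.1, hxW.1⟩
    have hsc : (Meet.meetSys st₂).StronglyClosed (T ⊓ (W ⊓ fixedSubgroup q G (Meet.meetSys st))) :=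
      stronglyClosed_iff_fn.2 ⟨inf_le_right, fun P f hf x hx hxW => by rwa [hfix P f hf x hx hxW]⟩
    have hab : ⁅T ⊓ (W ⊓ fixedSubgroup q G (Meet.meetSys st)),
        T ⊓ (W ⊓ fixedSubgroup q G (Meet.meetSys st))⁆ ≤ ⊥ := by
      refine le_of_eq (Subgroup.commutator_eq_bot_iff_le_centralizer.2 fun a ha =>
        Subgroup.mem_centralizer_iff.2 fun b hb => ?_)
      exact (mem_centralizerIn.1 (fixedSubgroup_le q ha.2.2)).2 b ⟨hb.2.1, hb.1⟩
    have hWN : (Meet.meetSys st₂).IsNormal (T ⊓ (W ⊓ fixedSubgroup q G (Meet.meetSys st))) := by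
      refine normal_of_series (hV.to_le hW'.1) hG'.1.1 hsc
        (fun i => if i = 0 then ⊥ else T ⊓ (W ⊓ fixedSubgroup q G (Meet.meetSys st))) 1 (if_pos rfl)
        (if_neg one_ne_zero) (fun i _ => ?_) fun i hi => ?_
      · by_cases h : i = 0
        · simpa [h] using normal_stronglyClosed (normal_bot (F := Meet.meetSys st₂))
        · simpa [h] using hsc
      · obtain rfl : i = 0 := by omega
        simpa using hab
    exact centralizes_of_step hV hG' hT hWN hfix (CoreLayer.subnormal_le hCG'.1).1 hC.1 (Or.inl hC.2.1)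

variable {S T U : Subgroup Ω} [Finite S] {F : FusionSystem S} {C : FusionSystem U} {D : FusionSystem T}

/-- A component meeting a normal subsystem centrally centralizes it, and is fixed by it. -/
theorem component_centralizes (hS : IsPGroup p S) (hF : F.IsSaturated p) (hC : C.IsComponentIn F p)
    (hD : D.IsNormalIn F p) (hUT : U ⊓ T ≤ C.center) :
    U ≤ centralizerIn S T ∧ FixesBy F C T ∧ U ≤ fixedSubgroup p F D := by
  obtain ⟨h1, h2⟩ := centralizes_of_subnormal hC.1 rfl inferInstance hS hF hC.2 hD hUT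
  exact ⟨h1, h2, le_fixed_of_centralizing hS hD hC.2.2.1 h1 h2⟩

/-- A component lies in a normal subsystem or centralizes it. -/
theorem component_or_centralizes (hS : IsPGroup p S) (hF : F.IsSaturated p) (hC : C.IsComponentIn F p)
    (hD : D.IsNormalIn F p) :
    C.IsComponentIn D p ∨ U ≤ centralizerIn S T ∧ FixesBy F C T ∧ U ≤ fixedSubgroup p F D :=
  (component_or_central hS hC hD.1).imp_right (component_centralizes hS hF hC hD)

end CfsgLib.Fsys.CompT
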