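import Cfsg.Agent.Lib.FusionSystem.CompTheory.CPConstruct
import Mathlib.Algebra.Group.Subgroup.Pointwise

/-! Commuting normal subsystems: the basic facts. -/

set_option autoImplicit false

namespace CfsgLib.Fsys.CompT

open Cfsg Cfsg.FusionSystem CfsgLib.Fsys.WNR
open Cfsg.FusionSystem (centralizerIn normalizerIn)

universe u

variable {Ω : Type u} [Group Ω] {S T₁ T₂ U : Subgroup Ω} [Finite S] {F : FusionSystem S}
  {E₁ : FusionSystem T₁} {E₂ : FusionSystem T₂} {D : FusionSystem U} {p : ℕ} [Fact p.Prime]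

/-- A subgroup of the centre is a central subgroup. -/
theorem central_of_le_center {R W : Subgroup Ω} [Finite R] {E : FusionSystem R} (hW : W ≤ E.center) :
    E.IsCentral W :=
  central_iff_fn.2 ⟨hW.trans (center_central (F := E)).1, fun P f hf => by
    obtain ⟨ψ, hψ, hψf, hψZ⟩ := (central_iff_fn.1 (center_central (F := E))).2 P f hf
    exact ⟨ψ, hψ.mono (sup_le_sup_left hW P), hψf, fun x hx => hψZ x (hW hx)⟩⟩

/-- A normal subgroup fixed by all maps is central. -/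
theorem central_of_normal_fixed {R W : Subgroup Ω} [Finite R] {E : FusionSystem R} (hN : E.IsNormal W)
    (hfix : ∀ (P : Subgroup Ω) (f : Ω → Ω), Fn E P f → ∀ x ∈ P, x ∈ W → f x = x) : W ≤ E.center :=
  le_center (central_iff_fn.2 ⟨hN.1, fun P f hf => by
    obtain ⟨ψ, hψ, hψf, -⟩ := (normal_iff_fn.1 hN).2 P f hf
    exact ⟨ψ, hψ, hψf, fun x hx => hfix _ ψ hψ x (Subgroup.mem_sup_right hx) hx⟩⟩)

/-- A strongly closed abelian subgroup is normal. -/
theorem normal_of_abelian {R W : Subgroup Ω} [Finite R] {E : FusionSystem R} (hR : IsPGroup p R)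
    (hE : E.IsSaturated p) (hW : E.StronglyClosed W) (hab : ∀ x ∈ W, ∀ y ∈ W, x * y = y * x) :
    E.IsNormal W := by
  have hc : ⁅W, W⁆ ≤ ⊥ := le_of_eq (Subgroup.commutator_eq_bot_iff_le_centralizer.2 fun a ha =>
    Subgroup.mem_centralizer_iff.2 fun b hb => hab b hb a ha)
  refine normal_of_series hR hE hW (fun i => if i = 0 then ⊥ else W) 1 (if_pos rfl)
    (if_neg one_ne_zero) (fun i _ => ?_) fun i hi => ?_
  · by_cases h : i = 0
    · simpa [h] using normal_stronglyClosed (normal_bot (F := E))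
    · simpa [h] using hW
  · obtain rfl : i = 0 := by omega
    simpa using hc

/-- Strongly closed subgroups have strongly closed products. -/
theorem sc_sup (hS : IsPGroup p S) (hF : F.IsSaturated p) {A B : Subgroup Ω} (hA : F.StronglyClosed A)
    (hB : F.StronglyClosed B) : F.StronglyClosed (A ⊔ B) := by
  refine stronglyClosed_iff_fn.2 ⟨sup_le hA.1 hB.1, fun P f hf x hx hxAB => ?_⟩
  obtain ⟨g, hg, hge⟩ := exists_extend_mod hS hF hA hf
  have hxmul : x ∈ ((B ⊔ A : Subgroup Ω) : Set Ω) := sup_comm A B ▸ hxAB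
  rw [Subgroup.coe_mul_of_left_le_normalizer_right B A
    (hB.1.trans (sc_le_normalizer hA))] at hxmul
  obtain ⟨b, hb, a, ha, rfl⟩ := hxmul
  have hbm : b ∈ P ⊔ A := by
    simpa using (P ⊔ A).mul_mem (Subgroup.mem_sup_left hx) (Subgroup.inv_mem _ (Subgroup.mem_sup_right ha))
  have h1 := hge _ hx
  dsimp only at h1 ⊢
  rw [hg.map_mul hbm (Subgroup.mem_sup_right ha)] at h1
  have e : f (b * a) = g b * g a * ((f (b * a))⁻¹ * (g b * g a))⁻¹ := by group
  rw [e]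
  exact Subgroup.mul_mem _ (Subgroup.mul_mem _ (Subgroup.mem_sup_right (sc_apply hB hg hbm hb))
    (Subgroup.mem_sup_left (sc_apply hA hg (Subgroup.mem_sup_right ha) ha)))
    (Subgroup.inv_mem _ (Subgroup.mem_sup_left h1))

/-- Two normal subsystems commuting, meeting centrally, with a central product inside the system. -/
structure Pair (F : FusionSystem S) (E₁ : FusionSystem T₁) (E₂ : FusionSystem T₂) (D : FusionSystem U)
    (p : ℕ) : Prop where
  isp : IsPGroup p S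
  n₁ : E₁.IsNormalIn F p
  n₂ : E₂.IsNormalIn F p
  cp : CPData E₁ E₂ D
  c₁ : T₁ ⊓ T₂ ≤ E₁.center
  c₂ : T₁ ⊓ T₂ ≤ E₂.center
  sub : D.IsSubsystemOf F

/-- Maps of a normal subsystem extend to a commuting strongly closed subgroup, fixing it. -/
theorem fixesBy_of_commute (hS : IsPGroup p S) (h₁ : E₁.IsNormalIn F p) (hT : F.StronglyClosed T₂)
    (hcomm : ∀ x ∈ T₁, ∀ y ∈ T₂, x * y = y * x) (hc : T₁ ⊓ T₂ ≤ E₁.center) : FixesBy F E₁ T₂ := by
  have hT₁ := h₁.1.2.2.2.1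
  haveI := finite_of_le_base hT₁.1
  have hc' : T₂ ⊓ T₁ ≤ E₁.center := fun x hx => hc ⟨hx.2, hx.1⟩
  exact (centralizes_of_step hS h₁ hT (central_normal (central_of_le_center hc'))
    (fun P f hf x hx hxW => fn_fix_center hf hx (hc' hxW)) (fun P φ hφ => hφ) h₁.1.1
    (Or.inr fun x hx => mem_centralizerIn.2 ⟨hT₁.1 hx, fun y hy => (hcomm x hx y hy).symm⟩)).2

namespace Pair

variable (pr : Pair F E₁ E₂ D p)
include pr

omit [Fact p.Prime] in
theorem symm : Pair F E₂ E₁ D p :=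
  ⟨pr.isp, pr.n₂, pr.n₁, pr.cp.symm, inf_comm T₂ T₁ ▸ pr.c₂, inf_comm T₂ T₁ ▸ pr.c₁, pr.sub⟩

omit [Fact p.Prime] in
theorem sat : F.IsSaturated p := pr.n₁.1.2.1

omit [Fact p.Prime] in
theorem sc₁ : F.StronglyClosed T₁ := pr.n₁.1.2.2.2.1

omit [Fact p.Prime] in
theorem sc₂ : F.StronglyClosed T₂ := pr.n₂.1.2.2.2.1

theorem sc : F.StronglyClosed U := pr.cp.base_eq ▸ sc_sup pr.isp pr.sat pr.sc₁ pr.sc₂

omit [Fact p.Prime] in
theorem sc_inf : F.StronglyClosed (T₁ ⊓ T₂) :=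
  stronglyClosed_iff_fn.2 ⟨inf_le_left.trans pr.sc₁.1, fun _ _ hf _ hx h =>
    ⟨sc_apply pr.sc₁ hf hx h.1, sc_apply pr.sc₂ hf hx h.2⟩⟩

omit [Fact p.Prime] in
theorem inf_commute {w x : Ω} (hw : w ∈ T₁ ⊓ T₂) (hx : x ∈ U) : x * w = w * x := by
  obtain ⟨a, ha, b, hb, rfl⟩ := pr.cp.decomp x hx
  rw [mul_assoc, ← pr.cp.commute w hw.1 b hb, ← mul_assoc, pr.cp.commute a ha w hw.2, mul_assoc]

theorem inf_normal : F.IsNormal (T₁ ⊓ T₂) :=
  normal_of_abelian pr.isp pr.sat pr.sc_inf fun x hx y hy => pr.cp.commute x hx.1 y hy.2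

/-- An automorphism of a factor extends to the product. -/
theorem exists_ext_aut {a : MulAut T₁} (ha : a ∈ F.autGroup T₁) :
    ∃ α ∈ F.autGroup U, ∀ x ∈ T₁, autFn α x = autFn a x := by
  haveI := finite_of_le_base pr.sc₁.1
  have hr := fullyNormalized_receptive pr.isp pr.sat
    (fullyNormalized_of_weaklyClosed (weaklyClosed_of_stronglyClosed pr.sc₁))
  obtain ⟨N, g, hg, hTN, hN, hge⟩ := receptive_extend hr ((mem_autGroup_iff_fn pr.sc₁.1).1 ha) (img_autFn a)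
  have hUN : U ≤ N := fun z hz => by
    obtain ⟨x, hx, y, hy, rfl⟩ := pr.cp.decomp z hz
    refine N.mul_mem (hTN hx) ((hN y).2 (inExt_of_commute (mem_centralizerIn.2
      ⟨pr.sc₂.1 hy, fun t ht => pr.cp.commute t ht y hy⟩)))
  haveI := finite_of_le_base pr.sc.1
  obtain ⟨α, hα, hαe⟩ := exists_aut_of_fn (hg.mono hUN)
    ((hg.mono hUN).img_eq_self fun x hx => sc_apply pr.sc hg (hUN hx) hx)
  exact ⟨α, hα, fun x hx => by rw [autFn_coe α ⟨x, pr.cp.left_le hx⟩, hαe]; exact hge x hx⟩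

omit [Fact p.Prime] in
/-- A map of a factor, extended by the identity, is a map of the product. -/
theorem exists_left_map {P : Subgroup Ω} {e : Ω → Ω} (he : Fn E₁ P e) (hW : T₁ ⊓ T₂ ≤ P) :
    ∃ g : Ω → Ω, Fn D (P ⊔ T₂) g ∧ (∀ x ∈ P, g x = e x) ∧ ∀ y ∈ T₂, g y = y := by
  have hdom : ∀ x ∈ T₁, ∀ y ∈ T₂, x * y ∈ P ⊔ T₂ → x ∈ P ∧ y ∈ T₂ := fun x hx y hy hxy => by
    refine ⟨?_, hy⟩
    obtain ⟨a, ha, b, hb, e'⟩ := mem_sup_of_commute (fun a ha b hb => pr.cp.commute a (he.le ha) b hb) hxy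
    have h1 : a⁻¹ * x = b * y⁻¹ := by
      calc a⁻¹ * x = a⁻¹ * (x * y) * y⁻¹ := by group
        _ = _ := by rw [e']; group
    have h2 : a⁻¹ * x ∈ T₁ ⊓ T₂ :=
      ⟨T₁.mul_mem (T₁.inv_mem (he.le ha)) hx, h1 ▸ T₂.mul_mem hb (T₂.inv_mem hy)⟩
    simpa using P.mul_mem ha (hW h2)
  obtain ⟨g, hg, hge⟩ := pr.cp.intro (P ⊔ T₂) P T₂ e id (sup_le (he.le.trans pr.cp.left_le) pr.cp.right_le) he
    (fn_id le_rfl) hdom
  refine ⟨g, hg, fun x hx => ?_, fun y hy => ?_⟩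
  · have h := hge x (he.le hx) 1 (one_mem _) (by rw [mul_one]; exact Subgroup.mem_sup_left hx)
    rwa [mul_one, id_eq, mul_one] at h
  · have h := hge 1 (one_mem _) y hy (by rw [one_mul]; exact Subgroup.mem_sup_right hy)
    rwa [one_mul, he.map_one, one_mul] at h

end Pair

end CfsgLib.Fsys.CompT
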