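import Cfsg.Agent.Lib.FusionSystem.CompTheory.LayerNormal

/-! Components are normal in the layer and in the generalized Fitting subsystem. -/

set_option autoImplicit false

namespace CfsgLib.Fsys.CompT

open Cfsg Cfsg.FusionSystem CfsgLib.Fsys.WNR
open Cfsg.FusionSystem (centralizerIn normalizerIn)

universe u

variable {Ω : Type u} [Group Ω] {p : ℕ} [Fact p.Prime]

omit [Fact p.Prime] in
/-- A normal subsystem of a factor is normal in the central product. -/
theorem CPData.normal_of_left {T₁ T₂ U R : Subgroup Ω} [Finite U] {E₁ : FusionSystem T₁} {E₂ : FusionSystem T₂}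
    {D : FusionSystem U} {C : FusionSystem R} (h : CPData E₁ E₂ D) (hD : D.IsSaturated p)
    (hsub : E₁.IsSubsystemOf D) (hC : C.IsNormalIn E₁ p) : C.IsNormalIn D p := by
  obtain ⟨⟨hCs, -, hCi⟩, hext⟩ := hC
  have hR := hCi.2.1
  haveI := finite_of_le_base h.left_le
  haveI := finite_of_le_base hR.1
  have hRU : R ≤ U := hR.1.trans h.left_le
  have hsc : D.StronglyClosed R := stronglyClosed_iff_fn.2 ⟨hRU, fun P f hf x hx hxR => by
    have hP : Subgroup.zpowers x ≤ P := Subgroup.zpowers_le.2 hx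
    exact sc_apply hR (h.fn_left (hf.mono hP) (Subgroup.zpowers_le.2 (hR.1 hxR))) (Subgroup.mem_zpowers x) hxR⟩
  have haut : ∀ {a : MulAut R}, a ∈ D.autGroup R → a ∈ E₁.autGroup R := fun {a} ha =>
    (mem_autGroup_iff_fn hR.1).2 (h.fn_left ((mem_autGroup_iff_fn hRU).1 ha) hR.1)
  refine ⟨⟨hCs, hD, Meet.invariant_of_fn (fun P φ hφ => hsub P (hCi.1 P hφ)) hsc
    (fun {P g α} hg hα => Invariant.aut hCi hg.le hg (haut hα)) fun {P f} hP hf => ?_⟩, fun α hα => ?_⟩
  · obtain ⟨α, hα, e, he, hfe⟩ := Invariant.frattini hCi hP (h.fn_left hf (hP.trans hR.1))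
    exact ⟨α, autGroup_mono' hsub R hα, e, he, hfe⟩
  · set V₁ := R ⊔ centralizerIn T₁ R
    set V := R ⊔ centralizerIn U R
    obtain ⟨β, hβ, hβa, hβd⟩ := hext α hα
    have hV₁ : V₁ ≤ T₁ := sup_le hR.1 centralizerIn_le
    have hV : V ≤ U := sup_le hRU centralizerIn_le
    haveI := finite_of_le_base hV
    have hy : ∀ y ∈ T₂, y ∈ Subgroup.centralizer (R : Set Ω) := fun y hy =>
      Subgroup.mem_centralizer_iff.2 fun t ht => h.commute t (hR.1 ht) y hy
    have hsplit : ∀ c ∈ centralizerIn U R, ∀ x ∈ T₁, ∀ y ∈ T₂, x * y = c → x ∈ centralizerIn T₁ R :=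
      fun c hc x hx y hy' e => ⟨hx, by
        have h1 := Subgroup.mul_mem _ hc.2 (Subgroup.inv_mem _ (hy y hy'))
        rwa [← e, mul_inv_cancel_right] at h1⟩
    have hVle : V ≤ V₁ ⊔ T₂ := sup_le (le_sup_left.trans le_sup_left) fun c hc => by
      obtain ⟨x, hx, y, hy', e⟩ := h.decomp c (centralizerIn_le hc)
      exact e ▸ Subgroup.mul_mem_sup (Subgroup.mem_sup_right (hsplit c hc x hx y hy' e)) hy'
    have hdom : ∀ x ∈ T₁, ∀ y ∈ T₂, x * y ∈ V → x ∈ V₁ ∧ y ∈ T₂ := fun x hx y hy' hxy => by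
      obtain ⟨a, ha, b, hb, e⟩ := mem_sup_of_commute (fun a ha b hb => h.commute a (hV₁ ha) b hb) (hVle hxy)
      have h1 : a⁻¹ * x = b * y⁻¹ := by
        calc a⁻¹ * x = a⁻¹ * (x * y) * y⁻¹ := by group
          _ = _ := by rw [e]; group
      have h2 : a⁻¹ * x ∈ centralizerIn T₁ R :=
        ⟨T₁.mul_mem (T₁.inv_mem (hV₁ ha)) hx, h1 ▸ hy _ (T₂.mul_mem hb (T₂.inv_mem hy'))⟩
      exact ⟨by simpa using V₁.mul_mem ha (Subgroup.mem_sup_right h2), hy'⟩
    obtain ⟨f, hf, hfe⟩ := h.intro V V₁ T₂ (autFn β) id hV ((mem_autGroup_iff_fn hV₁).1 hβ) (fn_id le_rfl) hdom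
    have hfR : ∀ x ∈ R, f x = autFn α x := fun x hx => by
      have h1 := hfe x (hR.1 hx) 1 (one_mem _) (by rw [mul_one]; exact Subgroup.mem_sup_left hx)
      rw [mul_one, id_eq, mul_one] at h1
      rw [h1, autFn_coe β ⟨x, Subgroup.mem_sup_left hx⟩, autFn_coe α ⟨x, hx⟩]
      exact hβa ⟨x, hx⟩
    have hfi : img f R = R := (img_congr hfR).trans (img_autFn α)
    have hfV : img f V = V := hf.img_eq_self fun x hx => by
      have h1 := mem_img_of_mem (f := f) hx
      rw [hf.img_sup, hfi] at h1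
      exact sup_le_sup le_rfl
        (img_le fun c hc => hf.map_centralizer le_sup_left hfi (Subgroup.mem_sup_right hc) hc) h1
    obtain ⟨γ, hγ, hγe⟩ := exists_aut_of_fn hf hfV
    refine ⟨γ, hγ, fun x => ?_, fun c hc => ?_⟩
    · rw [hγe, ← autFn_coe]
      exact hfR x x.2
    · obtain ⟨x, hx, y, hy', e⟩ := h.decomp c (centralizerIn_le hc)
      have hxC := hsplit c hc x hx y hy' e
      have hd := hβd ⟨x, Subgroup.mem_sup_right hxC⟩ hxC
      rw [← autFn_coe] at hd
      rw [hγe c, ← e, hfe x hx y hy' (e.symm ▸ c.2), id_eq,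
        show (x * y)⁻¹ * (autFn β x * y) = y⁻¹ * (x⁻¹ * autFn β x * y) by group,
        h.commute _ (hR.1 hd.1) y hy', inv_mul_cancel_left]
      exact hd

/-- A component is the system itself or lies in a proper normal subsystem. -/
theorem eq_or_proper {U V : Subgroup Ω} {C : FusionSystem U} {F : FusionSystem V} {q : ℕ}
    (h : C.IsSubnormalIn F q) : (U = V ∧ ∀ P : Subgroup Ω, C.Hom P = F.Hom P) ∨
      ∃ (T : Subgroup Ω) (G : FusionSystem T), G.IsNormalIn F q ∧
        ¬ (T = V ∧ ∀ P : Subgroup Ω, G.Hom P = F.Hom P) ∧ C.IsSubnormalIn G q := by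
  induction h with
  | refl G q => exact Or.inl ⟨rfl, fun _ => rfl⟩
  | @step W V C G₁ G q hCG hG ih =>
    by_cases he : W = V ∧ ∀ P : Subgroup Ω, G₁.Hom P = G.Hom P
    · obtain ⟨hW, hhom⟩ := he
      subst hW
      obtain rfl : G₁ = G := system_ext hhom
      exact ih
    · exact Or.inr ⟨W, G₁, hG, he, hCG⟩

variable {S : Subgroup Ω} [Finite S] {F : FusionSystem S}

/-- The layer is its own layer. -/
theorem layer_layer (hS : IsPGroup p S) {T : Subgroup Ω} {E : FusionSystem T}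
    (hE : E.IsLayerOf F p) : E.IsLayerOf E p := by
  have hT := hE.1.1.2.2.2.1
  haveI := finite_of_le_base hT.1
  obtain ⟨R, L, hL⟩ := exists_layer (hS.to_le hT.1) hE.1.1.1
  have hLn := layer_normal hS hE.1 hL
  have h1 : E.IsSubsystemOf L := hE.2.2 R L hLn fun U C hC =>
    hL.2.1 U C (component_of_le hS hC hE.1.1 (subsystem_le (hE.2.1 U C hC)))
  have h2 : L.IsSubsystemOf E := hL.1.1.2.2.1
  exact system_cast (C := fun _ X => X.IsLayerOf E p) (le_antisymm (subsystem_le h2) (subsystem_le h1))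
    (fun P => Set.Subset.antisymm (h1 P) (h2 P)) hL

/-- Components are normal in the layer. -/
theorem component_normal_layer : ∀ (n : ℕ) {S : Subgroup Ω} [Finite S] {F : FusionSystem S},
    (Comp.maps F).ncard = n → IsPGroup p S → F.IsSaturated p → ∀ {U : Subgroup Ω} {C : FusionSystem U},
      C.IsComponentIn F p → ∀ {T : Subgroup Ω} {E : FusionSystem T}, E.IsLayerOf F p → C.IsNormalIn E p := by
  intro n
  induction n using Nat.strong_induction_on with
  | _ n ih =>
  intro S _ F hn hS hF U C hC T E hE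
  classical
  have hTS : T ≤ S := subsystem_le hE.1.1.2.2.1
  haveI := finite_of_le_base hTS
  by_cases hEF : T = S ∧ ∀ P : Subgroup Ω, E.Hom P = F.Hom P
  swap
  · have hlt : (Comp.maps E).ncard < n := hn ▸ Set.ncard_lt_ncard
      (Comp.maps_ssubset hE.1.1.2.2.1 hEF) (Comp.maps_finite F)
    exact ih _ hlt rfl (hS.to_le hTS) hE.1.1.1
      (component_of_le hS hC hE.1.1 (subsystem_le (hE.2.1 U C hC))) (layer_layer hS hE)
  obtain ⟨hTeq, hhom⟩ := hEF
  subst hTeq
  obtain rfl : E = F := system_ext hhom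
  rcases eq_or_proper hC.1 with ⟨hU, hCF⟩ | ⟨T₀, G, hG, hne, hCG⟩
  · subst hU
    obtain rfl : C = E := system_ext hCF
    exact normalIn_self hF
  have hT₀ : T₀ ≤ _ := subsystem_le hG.1.2.2.1
  haveI := finite_of_le_base hT₀
  obtain ⟨R, L, hL⟩ := exists_layer (hS.to_le hT₀) hG.1.1
  have hLn := layer_normal hS hG hL
  have hRS := subsystem_le hLn.1.2.2.1
  haveI := finite_of_le_base hRS
  have hlt : (Comp.maps L).ncard < n := by
    refine hn ▸ lt_of_le_of_lt (Set.ncard_le_ncard (fun q hq => hL.1.1.2.2.1 q.1 hq) (Comp.maps_finite G)) ?_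
    exact Set.ncard_lt_ncard (Comp.maps_ssubset hG.1.2.2.1 hne) (Comp.maps_finite E)
  have hCL := component_of_le hS hC hLn.1 (subsystem_le (hL.2.1 U C ⟨hCG, hC.2⟩))
  have hCn := ih _ hlt rfl (hS.to_le hRS) hLn.1.1 hCL (layer_layer (hS.to_le hT₀) hL)
  -- the centralizer of the layer of the normal subsystem
  set K := fixedSubgroup p E L
  obtain ⟨H, hH, hHc⟩ := Red.exists_centralizer_normal hS hLn
  have hK := hH.1.2.2.2.1
  have hKC : K ≤ centralizerIn _ R := fixedSubgroup_le p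
  haveI := finite_of_le_base hK.1
  have hcomm : ∀ x ∈ R, ∀ y ∈ K, x * y = y * x := fun x hx y hy => (mem_centralizerIn.1 (hKC hy)).2 x hx
  have hLsub := hLn.1.2.2.1
  have hR := hLn.1.2.2.2.1
  have hab : ∀ x ∈ R ⊓ K, ∀ y ∈ R ⊓ K, x * y = y * x := fun x hx y hy => hcomm x hx.1 y hy.2
  have hfixH : ∀ (P : Subgroup Ω) (f : Ω → Ω), Fn H P f → ∀ x ∈ P, x ∈ R ⊓ K → f x = x := by
    intro P f hf x hx hxW
    obtain ⟨φ, hφ, hφf⟩ := hf
    obtain ⟨-, -, -, ψ, -, hψφ, hψX⟩ := hHc P hφ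
    rw [← hφf ⟨x, hx⟩, ← hψφ ⟨x, hx⟩]
    exact hψX ⟨x, hxW.1⟩
  have hfixL : ∀ (P : Subgroup Ω) (f : Ω → Ω), Fn L P f → ∀ x ∈ P, x ∈ R ⊓ K → f x = x := by
    intro P f hf x hx hxW
    obtain ⟨ψ, -, hψf, hψK⟩ := (centralized_iff hLsub hKC).1 (centralized_fixedSubgroup hS hLn) P f hf
    rw [← hψf x hx, hψK x hxW.2]
  have hscH : H.StronglyClosed (R ⊓ K) := stronglyClosed_iff_fn.2
    ⟨inf_le_right, fun P f hf x hx hxW => by rwa [hfixH P f hf x hx hxW]⟩
  have hscL : L.StronglyClosed (R ⊓ K) := stronglyClosed_iff_fn.2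
    ⟨inf_le_left, fun P f hf x hx hxW => by rwa [hfixL P f hf x hx hxW]⟩
  have c₁ := central_of_normal_fixed (normal_of_abelian (hS.to_le hRS) hLn.1.1 hscL hab) hfixL
  have c₂ := central_of_normal_fixed (normal_of_abelian (hS.to_le hK.1) hH.1.1 hscH hab) hfixH
  obtain ⟨D, hD, hcp⟩ := exists_normal_product hS hLn hH hcomm c₁ c₂
  have hd := cpData hcp
  have hsubL := hd.sub_left c₁
  have hsubH := hd.symm.sub_left (inf_comm K R ▸ c₂)
  have hall : E.IsSubsystemOf D := hE.2.2 _ D hD fun U' C' hC' => by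
    rcases component_or_centralizes hS hF hC' hLn with h | ⟨-, -, h⟩
    · exact fun P φ hφ => hsubL P ((CoreLayer.subnormal_le h.1).1 P hφ)
    · exact fun P φ hφ => hsubH P ((CoreLayer.subnormal_le (component_of_le hS hC' hH.1 h).1).1 P hφ)
  have hbase := le_antisymm (subsystem_le hD.1.2.2.1) (subsystem_le hall)
  haveI := finite_of_le_base (subsystem_le hD.1.2.2.1)
  exact system_cast (C := fun _ X => C.IsNormalIn X p) hbase
    (fun P => Set.Subset.antisymm (hall P) (hD.1.2.2.1 P)) (hd.normal_of_left hD.1.1 hsubL hCn)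

/-- Components are normal in every generalized Fitting subsystem. -/
theorem component_normal_fitting (hS : IsPGroup p S) (hF : F.IsSaturated p) {U : Subgroup Ω}
    {C : FusionSystem U} (hC : C.IsComponentIn F p) {V : Subgroup Ω} {D : FusionSystem V}
    (hD : D.IsGeneralizedFittingOf F p) : C.IsNormalIn D p := by
  have hDn := fitting_normal hS hF hD
  obtain ⟨T, E, hE, hprod⟩ := hD
  haveI := finite_of_le_base hE.1.1.2.2.2.1.1
  haveI := finite_of_le_base (core_le_base (F := F))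
  haveI := finite_of_le_base (subsystem_le hDn.1.2.2.1)
  have hd := (cpData hprod).symm
  have hc := (layer_inf_central hS hF hE).2
  exact hd.normal_of_left hDn.1.1 (hd.sub_left (inf_comm F.core T ▸ hc))
    (component_normal_layer _ rfl hS hF hC hE)

end CfsgLib.Fsys.CompT
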