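import Cfsg.Agent.Lib.FusionSystem.CompTheory.Subnormal
import Cfsg.Agent.Lib.FusionSystem.SFour

/-! A normal subsystem moves a strongly closed subgroup within their intersection, if it fixes it. -/

set_option autoImplicit false

namespace CfsgLib.Fsys.CompT

open Cfsg Cfsg.FusionSystem CfsgLib.Fsys.WNR CfsgLib.Fsys.CoreLayer
open Cfsg.FusionSystem (centralizerIn normalizerIn)

universe u

variable {Ω : Type u} [Group Ω] {S T Q : Subgroup Ω} [Finite S] {F : FusionSystem S} {E : FusionSystem T}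
  {p : ℕ} [Fact p.Prime]

omit [Finite S] in
/-- An element of an automizer stabilizing a chain is induced by the base. -/
theorem mem_autInducedBy_of_stabilizer [Finite T] (hT : IsPGroup p T) {Y Z : Subgroup Ω}
    (hA : E.IsFullyAutomized p Y) (hY : Y ≤ T) (hZY : Z ≤ Y)
    (hfix : ∀ b ∈ E.autGroup Y, ∀ z ∈ Z, autFn b z = z) {a : MulAut Y} (ha : a ∈ E.autGroup Y)
    (had : ∀ y ∈ Y, y⁻¹ * autFn a y ∈ Z) : a ∈ autInducedBy T Y := by
  have hmul : ∀ {b : MulAut Y}, b ∈ E.autGroup Y → ∀ {x z : Ω}, x ∈ Y → z ∈ Z →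
      autFn b (x * z) = autFn b x * z := fun {b} hb {x z} hx hz => by
    rw [((mem_autGroup_iff_fn hY).1 hb).map_mul hx (hZY hz), hfix b hb z hz]
  let A₂ : Subgroup (MulAut Y) :=
    { carrier := {b | b ∈ E.autGroup Y ∧ ∀ y ∈ Y, y⁻¹ * autFn b y ∈ Z}
      one_mem' := ⟨one_mem _, fun y hy => by rw [autFn_id hy, inv_mul_cancel]; exact one_mem _⟩
      mul_mem' := fun {b c} hb hc => ⟨mul_mem hb.1 hc.1, fun y hy => by
        have hz := hc.2 y hy
        rw [autFn_mul _ _ hy, ← mul_inv_cancel_left y (autFn c y), hmul hb.1 hy hz, ← mul_assoc]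
        exact mul_mem (hb.2 y hy) hz⟩
      inv_mem' := fun {b} hb => ⟨inv_mem hb.1, fun y hy => by
        have h := inv_mem (hb.2 _ (autFn_mem b⁻¹ hy))
        rw [autFn_apply_inv b hy] at h
        simpa using h⟩ }
  haveI := finite_of_le_base (hZY.trans hY)
  obtain ⟨K, hK⟩ := IsPGroup.iff_card.1 (hT.to_le (hZY.trans hY))
  obtain ⟨γ, hγ, hγA⟩ := exists_conj_into hT hA (T := A₂) (fun b hb => hb.1) (fun ⟨b, hb⟩ => ⟨K, Subtype.ext (by
    show b ^ p ^ K = 1
    rw [← hK]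
    exact pow_card_eq_one_of_fix hZY (hfix b hb.1) hb.2)⟩)
  have hmem : γ⁻¹ * a * γ⁻¹⁻¹ ∈ A₂ := by
    refine ⟨mul_mem (mul_mem (inv_mem hγ) ha) (inv_mem (inv_mem hγ)), fun y hy => ?_⟩
    have hv := autFn_mem γ⁻¹⁻¹ hy
    have hz := had _ hv
    rw [autFn_mul _ _ hy, autFn_mul _ _ hv, ← mul_inv_cancel_left (autFn γ⁻¹⁻¹ y) (autFn a (autFn γ⁻¹⁻¹ y)),
      hmul (inv_mem hγ) hv hz, autFn_apply_inv γ⁻¹ hy, inv_mul_cancel_left]
    exact hz
  have h := hγA _ hmem
  simpa [mul_assoc] using h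

/-- Extend a map to `Q` when each element of `Q` is transported to a conjugation. -/
theorem exists_ext_of_conj (hS : IsPGroup p S) (hF : F.IsSaturated p) (hQ : F.StronglyClosed Q) {Y : Subgroup Ω}
    (hY : F.IsFullyNormalized Y) {h : MulAut ↥(Y ⊔ centralizerIn S Y)}
    (hh : Fn F (Y ⊔ centralizerIn S Y) (autFn h))
    (hq : ∀ q ∈ Q, InExt S (Y ⊔ centralizerIn S Y) (autFn h) q) :
    ∃ g : Ω → Ω, Fn F ((Y ⊔ centralizerIn S Y) ⊔ Q) g ∧ (∀ x ∈ Y ⊔ centralizerIn S Y, g x = autFn h x) ∧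
      img g Q = Q := by
  obtain ⟨N, g, hg, hVN, hN, hge⟩ := receptive_extend (fullyCentralized_receptive hS hF
    (Meet.centric_fullyCentralized (centric_sup_centralizer (fullyNormalized_good hS hF hY).2))) hh (img_autFn h)
  have hQN : Q ≤ N := fun q h' => (hN q).2 (hq q h')
  haveI := finite_of_le_base hQ.1
  exact ⟨g, hg.mono (sup_le hVN hQN), hge,
    (hg.mono hQN).img_eq_self fun x hx => sc_apply hQ hg (hQN hx) hx⟩

/-- A good lift transports conjugation by `q` to a conjugation, if it does so on `Y`. -/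
theorem exists_conjugator (hS : IsPGroup p S) (hF : F.IsSaturated p) {Y : Subgroup Ω}
    {h : MulAut ↥(Y ⊔ centralizerIn S Y)} (hh : GoodLift p F E Y h)
    (hhf : Fn F (Y ⊔ centralizerIn S Y) (autFn h)) (hEi : E.IsInvariantIn F) {q r : Ω} (hqS : q ∈ S)
    (hqY : q ∈ Subgroup.normalizer (Y : Set Ω)) (hr : r ∈ T)
    (hY : ∀ z ∈ Y, autFn h (q * z * q⁻¹) = r * q * autFn h z * (r * q)⁻¹) :
    InExt S (Y ⊔ centralizerIn S Y) (autFn h) q := by
  have hT := hEi.2.1
  have hYS : Y ≤ S := hh.fullyNormalized.1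
  have hYT : Y ≤ T := hh.centric.1
  haveI := finite_of_le_base hYS
  have hVS : (Y ⊔ centralizerIn S Y) ≤ S := sup_le hYS centralizerIn_le
  haveI := finite_of_le_base hVS
  have hrS := hT.1 hr
  have hstab : ∀ z ∈ Y, autFn h z ∈ Y := hh.compatible.stable
  have hhY : img (autFn h) Y = Y := (hhf.mono le_sup_left).img_eq_self hstab
  have hqz : ∀ z ∈ Y, q * z * q⁻¹ ∈ Y := fun z hz => (Subgroup.mem_normalizer_iff.1 hqY z).1 hz
  have hrY : r ∈ Subgroup.normalizer (Y : Set Ω) := mem_normalizer_of_map_le fun y hy => by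
    have hy' : q⁻¹ * y * q ∈ Y := (mem_normalizer_iff'.1 hqY).2 y hy
    obtain ⟨z, hz, hze⟩ := (hhf.mono le_sup_left).mem_img.1 (hhY.ge hy')
    have h1 := hY z hz
    rw [hze, show r * q * (q⁻¹ * y * q) * (r * q)⁻¹ = r * y * r⁻¹ by group] at h1
    exact h1 ▸ hstab _ (hqz z hz)
  have hrq : r * q ∈ normalizerIn S Y := ⟨S.mul_mem hrS hqS, Subgroup.mul_mem _ hrY hqY⟩
  have hqn : q ∈ normalizerIn S Y := ⟨hqS, hqY⟩
  have hrqi : (r * q)⁻¹ ∈ normalizerIn S Y := Subgroup.inv_mem _ hrq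
  have hVn : ∀ {n : Ω}, n ∈ normalizerIn S Y → ∀ x ∈ (Y ⊔ centralizerIn S Y), n * x * n⁻¹ ∈ (Y ⊔ centralizerIn S Y) := fun {n} hn x hx =>
    (mem_normalizer_iff'.1 (Meet.normalizer_le_sup hYS hn).2).1 x hx
  have hCn : ∀ {n : Ω}, n ∈ normalizerIn S Y → ∀ u ∈ (centralizerIn S Y), n * u * n⁻¹ ∈ (centralizerIn S Y) := fun {n} hn u hu =>
    (fn_conj (F := F) hVS hn.1).map_centralizer le_sup_left
      (((fn_conj (F := F) hYS hn.1)).img_eq_self fun y hy => (mem_normalizer_iff'.1 hn.2).1 y hy)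
      (Subgroup.mem_sup_right hu) hu
  have hki : Fn F (Y ⊔ centralizerIn S Y) (autFn h⁻¹) :=
    (mem_autGroup_iff_fn hVS).1 (inv_mem ((mem_autGroup_iff_fn hVS).2 hhf))
  set ε : Ω → Ω := fun x => (r * q)⁻¹ * autFn h (q * autFn h⁻¹ x * q⁻¹) * (r * q)⁻¹⁻¹ with hε
  have hm1 : ∀ x ∈ (Y ⊔ centralizerIn S Y), q * autFn h⁻¹ x * q⁻¹ ∈ (Y ⊔ centralizerIn S Y) := fun x hx => hVn hqn _ (autFn_mem _ hx)
  have hεf : Fn F (Y ⊔ centralizerIn S Y) ε :=
    ((hki.comp (fn_conj hVS hqS) fun x hx => autFn_mem _ hx).comp hhf hm1).comp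
      (fn_conj hVS hrqi.1) fun x hx => autFn_mem _ (hm1 x hx)
  have hεY : ∀ y ∈ Y, ε y = y := fun y hy => by
    obtain ⟨z, hz, rfl⟩ := (hhf.mono le_sup_left).mem_img.1 (hhY.ge hy)
    show (r * q)⁻¹ * autFn h (q * autFn h⁻¹ (autFn h z) * q⁻¹) * (r * q)⁻¹⁻¹ = _
    rw [autFn_inv_apply h (Subgroup.mem_sup_left hz), hY z hz]
    group
  have hεC : ∀ u ∈ (centralizerIn S Y), u⁻¹ * ε u ∈ Y := fun u hu => by
    have huV : u ∈ (Y ⊔ centralizerIn S Y) := Subgroup.mem_sup_right hu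
    have hv : autFn h⁻¹ u ∈ (centralizerIn S Y) := by
      refine hki.map_centralizer le_sup_left ?_ huV hu
      refine (hki.mono le_sup_left).img_eq_self fun y hy => ?_
      obtain ⟨z, hz, rfl⟩ := (hhf.mono le_sup_left).mem_img.1 (hhY.ge hy)
      rwa [autFn_inv_apply h (Subgroup.mem_sup_left hz)]
    set v := autFn h⁻¹ u
    have hvu : u = v * (v⁻¹ * autFn h v) := by rw [mul_inv_cancel_left, autFn_apply_inv h huV]
    set v' := q * v * q⁻¹
    have hv' : v' ∈ (centralizerIn S Y) := hCn hqn v hv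
    set s := q⁻¹ * r * q
    have hsT : s ∈ T := by simpa using sc_conj hT (S.inv_mem hqS) hr
    have hsn : s⁻¹ ∈ normalizerIn S Y := Subgroup.inv_mem _ ⟨hT.1 hsT,
      Subgroup.mul_mem _ (Subgroup.mul_mem _ (Subgroup.inv_mem _ hqY) hrY) hqY⟩
    have hsv : v⁻¹ * (s⁻¹ * v * s⁻¹⁻¹) ∈ Y := by
      refine mem_of_commute hh.centric ?_ fun y hy => ?_
      · rw [show v⁻¹ * (s⁻¹ * v * s⁻¹⁻¹) = (v⁻¹ * s⁻¹ * v⁻¹⁻¹) * s by group]
        exact T.mul_mem (sc_conj hT (S.inv_mem (centralizerIn_le hv)) (T.inv_mem hsT)) hsT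
      · exact (mem_centralizerIn.1 ((centralizerIn S Y).mul_mem ((centralizerIn S Y).inv_mem hv) (hCn hsn v hv))).2 y hy
    have e : u⁻¹ * ε u = (v⁻¹ * autFn h v)⁻¹ * ((v⁻¹ * (s⁻¹ * v * s⁻¹⁻¹)) *
        ((r * q)⁻¹ * (v'⁻¹ * autFn h v') * (r * q)⁻¹⁻¹)) := by
      show u⁻¹ * ((r * q)⁻¹ * autFn h v' * (r * q)⁻¹⁻¹) = _
      rw [hvu]
      simp only [v', s]
      group
    rw [e]
    exact Y.mul_mem (Y.inv_mem (hh.compatible.move v hv)) (Y.mul_mem hsv
      ((mem_normalizer_iff'.1 hrqi.2).1 _ (hh.compatible.move v' hv')))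
  obtain ⟨D, hD⟩ := exists_centralizerSystem F hYS (Q := Y)
  have hCS : (centralizerIn S Y) ≤ S := centralizerIn_le
  haveI := finite_of_le_base hCS
  have hDs := centralizerSystem_saturated hS hF (fullyNormalized_good hS hF hh.fullyNormalized).2 hD
  have hεD : Fn D (centralizerIn S Y) ε := fn_centralizer_of_fix hD le_rfl (hεf.mono (le_of_eq (sup_comm _ _))) hεY
  obtain ⟨a, ha, hae⟩ := exists_aut_of_fn hεD (hεD.img_eq_self fun x hx => hεD.mem hx)
  have hfixZ : ∀ b ∈ D.autGroup (centralizerIn S Y), ∀ z ∈ Y ⊓ (centralizerIn S Y), autFn b z = z := fun b hb z hz => by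
    obtain ⟨-, -, g, -, hge, hgY⟩ := (fn_centralizer hD).1 ((mem_autGroup_iff_fn le_rfl).1 hb)
    rw [← hge z hz.2, hgY z hz.1]
  obtain ⟨e, he, hee⟩ := mem_autInducedBy.1 (mem_autInducedBy_of_stabilizer (hS.to_le hCS)
    (fullyAutomized_top hDs) le_rfl inf_le_right hfixZ ha fun u hu => by
      rw [autFn_coe a ⟨u, hu⟩, hae]
      exact ⟨hεC u hu, (centralizerIn S Y).mul_mem ((centralizerIn S Y).inv_mem hu) (hεD.mem hu)⟩)
  have hεe : ∀ x ∈ (Y ⊔ centralizerIn S Y), ε x = e * x * e⁻¹ := fun x hx => by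
    obtain ⟨y, hy, u, hu, rfl⟩ := mem_sup_of_commute (fun a ha b hb => (mem_centralizerIn.1 hb).2 a ha) hx
    have e1 : e * y * e⁻¹ = y := by rw [← (mem_centralizerIn.1 he).2 y hy, mul_inv_cancel_right]
    have e2 : ε u = e * u * e⁻¹ := (hae ⟨u, hu⟩).symm.trans (hee ⟨u, hu⟩)
    rw [hεf.map_mul (Subgroup.mem_sup_left hy) (Subgroup.mem_sup_right hu), hεY y hy, e2]
    conv_rhs => rw [show e * (y * u) * e⁻¹ = (e * y * e⁻¹) * (e * u * e⁻¹) by group, e1]
  refine ⟨hqS, (Meet.normalizer_le_sup hYS hqn).2, r * q * e,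
    S.mul_mem (S.mul_mem hrS hqS) (centralizerIn_le he), fun x hx => ?_⟩
  have h1 := hεe _ (autFn_mem h hx)
  show _ = _
  change (r * q)⁻¹ * autFn h (q * autFn h⁻¹ (autFn h x) * q⁻¹) * (r * q)⁻¹⁻¹ = _ at h1
  rw [autFn_inv_apply h hx] at h1
  calc autFn h (q * x * q⁻¹) = r * q * ((r * q)⁻¹ * autFn h (q * x * q⁻¹) * (r * q)⁻¹⁻¹) * (r * q)⁻¹ := by group
    _ = _ := by rw [h1]; group

set_option maxHeartbeats 1000000 in
/-- Every map of a normal subsystem over `T` extends to a strongly closed subgroup `Q` moving it within `Q ⊓ T`, if it fixes this intersection. -/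
theorem disp_of_sc (hS : IsPGroup p S) (hE : E.IsNormalIn F p) (hQsc : F.StronglyClosed Q)
    (hRN : E.IsNormal (Q ⊓ T))
    (hfix : ∀ (P : Subgroup Ω) (f : Ω → Ω), Fn E P f → ∀ x ∈ P, x ∈ Q ⊓ T → f x = x)
    {P : Subgroup Ω} {f : Ω → Ω} (hf : Fn E P f) : DispExt F Q (Q ⊓ T) P f := by
  classical
  obtain ⟨hw, hext⟩ := hE
  obtain ⟨hEs, hF, hEi⟩ := id hw
  have hT := hEi.2.1
  haveI := finite_of_le_base hT.1
  haveI := finite_of_le_base hQsc.1
  have hTp := hS.to_le hT.1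
  set R := Q ⊓ T with hRdef
  have hRn : ∀ s ∈ S, ∀ r ∈ R, s * r * s⁻¹ ∈ R := fun s hs r hr =>
    ⟨sc_conj hQsc hs hr.1, sc_conj hT hs hr.2⟩
  have hcommR : ∀ q ∈ Q, ∀ y ∈ T, q * y * q⁻¹ * y⁻¹ ∈ R := fun q hq y hy => by
    refine ⟨?_, T.mul_mem (sc_conj hT (hQsc.1 hq) hy) (T.inv_mem hy)⟩
    rw [mul_assoc, mul_assoc]
    exact Q.mul_mem hq (by rw [← mul_assoc]; exact sc_conj hQsc (hT.1 hy) (Q.inv_mem hq))
  let D : FusionSystem T := predSystem E (fun P f => DispExt F Q R P f)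
    (fun P f g he _ ⟨ψ, hψ, hψf, hψQ, hψd⟩ => ⟨ψ, hψ, fun x hx => (hψf x hx).trans (he x hx), hψQ, hψd⟩)
    (fun P hP s hs => ⟨_, fn_conj (sup_le (hP.trans hT.1) hQsc.1) (hT.1 hs), fun x _ => rfl,
      (fn_conj (F := F) hQsc.1 (hT.1 hs)).img_eq_self fun x hx => sc_conj hQsc (hT.1 hs) hx, fun q hq => by
        show q⁻¹ * (s * q * s⁻¹) ∈ R
        refine ⟨Q.mul_mem (Q.inv_mem hq) (sc_conj hQsc (hT.1 hs) hq), ?_⟩
        rw [show q⁻¹ * (s * q * s⁻¹) = q⁻¹ * s * q⁻¹⁻¹ * s⁻¹ by group]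
        exact T.mul_mem (sc_conj hT (S.inv_mem (hQsc.1 hq)) hs) (T.inv_mem hs)⟩)
    (fun P X f g hf' hg hm ⟨ψ, hψ, hψf, hψQ, hψd⟩ ⟨χ, hχ, hχg, hχQ, hχd⟩ => by
      have hc : Fn F (P ⊔ Q) (χ ∘ ψ) := hψ.comp hχ fun x hx => by
        have h1 := mem_img_of_mem (f := ψ) hx
        rw [hψ.img_sup, hψQ] at h1
        exact sup_le_sup (img_le fun y hy => (hψf y hy).symm ▸ hm y hy) le_rfl h1
      refine ⟨χ ∘ ψ, hc, fun x hx => ?_, ?_, fun q hq => ?_⟩
      · show χ (ψ x) = g (f x)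
        rw [hψf x hx, hχg _ (hm x hx)]
      · rw [(hψ.mono le_sup_right).img_comp, hψQ, hχQ]
      · show q⁻¹ * χ (ψ q) ∈ R
        have hd := hψd q hq
        have hdX : q⁻¹ * ψ q ∈ X ⊔ Q := Subgroup.mem_sup_right hd.1
        rw [show ψ q = q * (q⁻¹ * ψ q) from (mul_inv_cancel_left _ _).symm,
          hχ.map_mul (Subgroup.mem_sup_right hq) hdX, ← mul_assoc]
        exact R.mul_mem (hχd q hq) ⟨sc_apply hQsc hχ hdX hd.1, sc_apply hT hχ hdX hd.2⟩)
    (fun P f g hf' hg hgf ⟨ψ, hψ, hψf, hψQ, hψd⟩ => by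
      obtain ⟨χ, hχ, hχψ, -⟩ := hψ.exists_inv
      rw [hψ.img_sup, img_congr hψf, hψQ] at hχ
      refine ⟨χ, hχ, fun y hy => ?_, (hχ.mono le_sup_right).img_eq_self fun y hy =>
        sc_apply hQsc hχ (Subgroup.mem_sup_right hy) hy, fun y hy => ?_⟩
      · obtain ⟨x, hx, rfl⟩ := hf'.mem_img.1 hy
        rw [hgf x hx, ← hψf x hx, hχψ x (Subgroup.mem_sup_left hx)]
      · obtain ⟨x, hx, rfl⟩ := (hψ.mono le_sup_right).mem_img.1 (hψQ.ge hy)
        rw [hχψ x (Subgroup.mem_sup_right hx)]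
        have := R.inv_mem (hψd x hx)
        rwa [mul_inv_rev, inv_inv] at this)
  -- a good lift gives an extension moving `Q` within `R`
  have hgood : ∀ {Y : Subgroup Ω} {h : MulAut ↥(Y ⊔ centralizerIn S Y)}, GoodLift p F E Y h →
      h ∈ F.autGroup (Y ⊔ centralizerIn S Y) → R ≤ Y → ∀ {P : Subgroup Ω} {g : Ω → Ω}, E.IsCentric P → R ≤ P →
      Fn F (normalizerIn S P) g → img g P = Y → ∀ a ∈ E.autGroup P,
      (∀ x ∈ P, autFn h (g x) = g (autFn a x)) → a ∈ D.autGroup P := by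
    intro Y h hh hhF hRY P g hP hRP hg hgi a ha hag
    obtain ⟨a', ha', hha⟩ := hh.restrict
    have hYT : Y ≤ T := hh.centric.1
    have hYS : Y ≤ S := hh.fullyNormalized.1
    haveI := finite_of_le_base hYS
    have hWS : (Y ⊔ centralizerIn S Y) ≤ S := sup_le hYS centralizerIn_le
    have hhf := (mem_autGroup_iff_fn hWS).1 hhF
    have hQnY : ∀ q ∈ Q, q ∈ Subgroup.normalizer (Y : Set Ω) := fun q hq => mem_normalizer_of_map_le fun y hy => by
      have h1 := Y.mul_mem (hRY (hcommR q hq y (hYT hy))) hy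
      rwa [inv_mul_cancel_right] at h1
    obtain ⟨hA, -⟩ := fullyNormalized_good hTp hEs (fullyNormalized_sub hS hF hT hEi.1 hYT hh.fullyNormalized)
    have hfixY : ∀ b ∈ E.autGroup Y, ∀ z ∈ R, autFn b z = z := fun b hb z hz =>
      hfix Y _ ((mem_autGroup_iff_fn hYT).1 hb) z (hRY hz) hz
    have hconjR : ∀ q ∈ Q, ∀ y ∈ Y, y⁻¹ * (q * y * q⁻¹) ∈ R := fun q hq y hy => by
      have h1 := hRn y⁻¹ (S.inv_mem (hYS hy)) _ (hcommR q hq y (hYT hy))
      rwa [show y⁻¹ * (q * y * q⁻¹ * y⁻¹) * y⁻¹⁻¹ = y⁻¹ * (q * y * q⁻¹) by group] at h1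
    have hAT : ∀ τ ∈ E.autGroup Y, (∀ y ∈ Y, y⁻¹ * autFn τ y ∈ R) → τ ∈ autInducedBy T Y := fun τ hτ hd =>
      mem_autInducedBy_of_stabilizer hTp hA hYT hRY hfixY hτ hd
    obtain ⟨g₁, hg₁, hg₁e, hg₁Q⟩ : ∃ g₁, Fn F ((Y ⊔ centralizerIn S Y) ⊔ Q) g₁ ∧
        (∀ x ∈ Y ⊔ centralizerIn S Y, g₁ x = autFn h x) ∧ img g₁ Q = Q := by
      refine exists_ext_of_conj hS hF hQsc hh.fullyNormalized hhf fun q hq => ?_
      have hσF : conjAut Y (hQnY q hq) ∈ F.autGroup Y :=
        autInducedBy_le_autGroup hYS (conjAut_mem_autInducedBy _ (hQsc.1 hq))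
      set σ := conjAut Y (hQnY q hq) with hσ
      have hσd : ∀ y ∈ Y, y⁻¹ * autFn σ y ∈ R := fun y hy => by
        rw [autFn_coe σ ⟨y, hy⟩, conjAut_coe]
        exact hconjR q hq y hy
      set d := a' * (σ * a'⁻¹ * σ⁻¹)
      have hd : d ∈ E.autGroup Y := mul_mem ha' (Invariant.conj_mem hEi hYT hσF (Subgroup.inv_mem _ ha'))
      have hdm : ∀ y ∈ Y, y⁻¹ * autFn d y ∈ R := fun y hy => by
        set s := autFn σ⁻¹ y
        have hs : s ∈ Y := autFn_mem _ hy
        set x := autFn a'⁻¹ s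
        have hx : x ∈ Y := autFn_mem _ hs
        have hw := hσd x hx
        have e1 : autFn d y = s * (x⁻¹ * autFn σ x) := by
          show autFn (a' * (σ * a'⁻¹ * σ⁻¹)) y = _
          rw [autFn_mul _ _ hy, mul_assoc, autFn_mul _ _ hy, autFn_mul _ _ hy]
          show autFn a' (autFn σ x) = _
          conv_lhs => rw [← mul_inv_cancel_left x (autFn σ x),
            ((mem_autGroup_iff_fn hYT).1 ha').map_mul hx (hRY hw), hfixY a' ha' _ hw]
          rw [show autFn a' x = s from autFn_apply_inv a' hs]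
        have hw' : y⁻¹ * s ∈ R := by
          have h1 := R.inv_mem (hσd s hs)
          rwa [show autFn σ s = y from autFn_apply_inv σ hy, mul_inv_rev, inv_inv] at h1
        rw [e1, ← mul_assoc]
        exact R.mul_mem hw' hw
      obtain ⟨r, hr, hre⟩ := mem_autInducedBy.1 (hAT d hd hdm)
      refine exists_conjugator hS hF hh hhf hEi (hQsc.1 hq) (hQnY q hq) hr fun z hz => ?_
      have hy : autFn σ (autFn a' z) ∈ Y := autFn_mem _ (autFn_mem _ hz)
      have e1 : autFn d (autFn σ (autFn a' z)) = autFn a' (autFn σ z) := by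
        show autFn (a' * (σ * a'⁻¹ * σ⁻¹)) _ = _
        rw [autFn_mul _ _ hy, mul_assoc, autFn_mul _ _ hy, autFn_mul _ _ hy,
          autFn_inv_apply σ (autFn_mem _ hz), autFn_inv_apply a' hz]
      rw [autFn_coe σ ⟨z, hz⟩, conjAut_coe] at e1
      rw [hha _ hz, hha _ (by simpa using ((Subgroup.mem_normalizer_iff.1 (hQnY q hq)) _).1 hz), ← e1,
        autFn_coe d ⟨_, hy⟩, hre]
      show r * autFn σ (autFn a' z) * r⁻¹ = _
      rw [autFn_coe σ ⟨_, autFn_mem _ hz⟩, conjAut_coe]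
      group
    set V := (Y ⊔ centralizerIn S Y) ⊔ Q with hVdef
    have hVS : V ≤ S := sup_le hWS hQsc.1
    obtain ⟨β, hβ, hβe⟩ := exists_aut_of_fn hg₁
      (by rw [hg₁.img_sup, img_congr hg₁e, img_autFn, hg₁Q])
    obtain ⟨n, hn, hnco⟩ := exists_coprime_pow (p := p) hVS (le_sup_left : (Y ⊔ centralizerIn S Y) ≤ V) (a := h)
      (fun w hw => (autFn_coe β ⟨w, Subgroup.mem_sup_left hw⟩).trans ((hβe _).trans (hg₁e w hw))) hh.coprime
    set γ := β ^ n
    have hγ : Fn F V (autFn γ) := (mem_autGroup_iff_fn hVS).1 (pow_mem hβ n)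
    have hγY : ∀ y ∈ Y, autFn γ y = autFn a' y := fun y hy =>
      (hn y (Subgroup.mem_sup_left hy)).trans (hha y hy)
    have hγQ : ∀ q ∈ Q, autFn γ q ∈ Q := fun q hq => sc_apply hQsc hγ (Subgroup.mem_sup_right hq) hq
    have hγR : ∀ r ∈ R, autFn γ r ∈ R := fun r hr =>
      ⟨hγQ r hr.1, sc_apply hT hγ (Subgroup.mem_sup_right hr.1) hr.2⟩
    have hdisp : ∀ q ∈ Q, q⁻¹ * autFn γ q ∈ R := by
      intro q hq
      refine disp_mem_of_coprime hS hVS (inf_le_left.trans le_sup_right) hnco hγR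
        (fun v hv => hRn v (hVS hv)) (Subgroup.mem_sup_right hq) ?_
      set d := q⁻¹ * autFn γ q with hd
      have hdQ : d ∈ Q := Q.mul_mem (Q.inv_mem hq) (hγQ q hq)
      set σ := conjAut Y (hQnY q hq) with hσ
      have hσF : σ ∈ F.autGroup Y := autInducedBy_le_autGroup hYS (conjAut_mem_autInducedBy _ (hQsc.1 hq))
      have hmem : σ⁻¹ * a' * σ * a'⁻¹ ∈ E.autGroup Y := by
        have h1 := Invariant.conj_mem hEi hYT (Subgroup.inv_mem _ hσF) ha'
        rw [inv_inv] at h1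
        exact mul_mem h1 (Subgroup.inv_mem _ ha')
      have heq : conjAut Y (hQnY d hdQ) = σ⁻¹ * a' * σ * a'⁻¹ := by
        suffices h1 : σ * conjAut Y (hQnY d hdQ) = a' * σ * a'⁻¹ by
          rw [eq_inv_mul_iff_mul_eq.2 h1]; simp [mul_assoc]
        refine mulAut_ext fun y hy => ?_
        have hz : autFn a'⁻¹ y ∈ Y := autFn_mem _ hy
        have hqz : q * autFn a'⁻¹ y * q⁻¹ ∈ Y := ((Subgroup.mem_normalizer_iff.1 (hQnY q hq)) _).1 hz
        rw [autFn_mul _ _ hy, autFn_mul _ _ hy, autFn_mul _ _ hz, autFn_coe _ ⟨y, hy⟩, conjAut_coe,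
          autFn_coe σ ⟨_, ((Subgroup.mem_normalizer_iff.1 (hQnY d hdQ)) _).1 hy⟩, conjAut_coe,
          autFn_coe σ ⟨_, hz⟩, conjAut_coe]
        show q * (d * y * d⁻¹) * q⁻¹ = autFn a' (q * autFn a'⁻¹ y * q⁻¹)
        rw [← hγY _ hqz, hγ.map_conj (Subgroup.mem_sup_right hq) (Subgroup.mem_sup_left (Subgroup.mem_sup_left hz)),
          hγY _ hz, autFn_apply_inv a' hy, hd]
        group
      obtain ⟨t, htT, ht⟩ := mem_autInducedBy.1 (hAT (conjAut Y (hQnY d hdQ)) (heq ▸ hmem) fun y hy => by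
        rw [autFn_coe _ ⟨y, hy⟩, conjAut_coe]
        exact hconjR d hdQ y hy)
      set c := t⁻¹ * d with hc
      have hcC : c ∈ centralizerIn S Y := mem_centralizerIn.2
        ⟨S.mul_mem (S.inv_mem (hT.1 htT)) (hQsc.1 hdQ), fun y hy => by
          have h1 : d * y * d⁻¹ = t * y * t⁻¹ := (conjAut_coe _ ⟨y, hy⟩).symm.trans (ht ⟨y, hy⟩)
          have h2 : c * y * c⁻¹ = y := by
            rw [show c * y * c⁻¹ = t⁻¹ * (d * y * d⁻¹) * t by rw [hc]; group, h1]
            group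
          conv_lhs => rw [← h2]
          group⟩
      have hcW : c ∈ (Y ⊔ centralizerIn S Y) := Subgroup.mem_sup_right hcC
      have htV : t ∈ V := by
        rw [show t = d * c⁻¹ by rw [hc]; group]
        exact V.mul_mem (Subgroup.mem_sup_right hdQ) (V.inv_mem (Subgroup.mem_sup_left hcW))
      refine ⟨Q.mul_mem (Q.inv_mem hdQ) (hγQ d hdQ), ?_⟩
      rw [show d = t * c by rw [hc]; group, hγ.map_mul htV (Subgroup.mem_sup_left hcW), hn c hcW,
        show (t * c)⁻¹ * (autFn γ t * autFn h c) =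
          c⁻¹ * (t⁻¹ * autFn γ t) * c⁻¹⁻¹ * (c⁻¹ * autFn h c) by group]
      exact T.mul_mem (sc_conj hT (S.inv_mem (centralizerIn_le hcC))
        (T.mul_mem (T.inv_mem htT) (sc_apply hT hγ htV htT))) (hYT (hh.compatible.move c hcC))
    -- transport back along `g`
    have hPS := hP.1.trans hT.1
    haveI := finite_of_le_base hPS
    have hQN : ∀ q ∈ Q, q ∈ normalizerIn S P := fun q hq => mem_normalizerIn.2 ⟨hQsc.1 hq,
      mem_normalizer_of_map_le fun y hy => by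
        have h1 := P.mul_mem (hRP (hcommR q hq y (hP.1 hy))) hy
        rwa [inv_mul_cancel_right] at h1⟩
    have hgP : Fn F (P ⊔ Q) g := hg.mono (sup_le (le_normalizerIn hPS) hQN)
    have hgQ : img g Q = Q := (hgP.mono le_sup_right).img_eq_self fun x hx =>
      sc_apply hQsc hgP (Subgroup.mem_sup_right hx) hx
    obtain ⟨g', hg', hg'g, hg'i⟩ := hgP.exists_inv
    rw [hgP.img_sup, hgi, hgQ] at hg' hg'i
    have hYV : Y ⊔ Q ≤ V := sup_le_sup le_sup_left le_rfl
    have hgm : ∀ x ∈ P ⊔ Q, g x ∈ Y ⊔ Q := fun x hx => by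
      have h1 := mem_img_of_mem (f := g) hx
      rwa [hgP.img_sup, hgi, hgQ] at h1
    have hcomp : Fn F (P ⊔ Q) (autFn γ ∘ g) := hgP.comp hγ fun x hx => hYV (hgm x hx)
    have hmm : ∀ x ∈ P ⊔ Q, (autFn γ ∘ g) x ∈ Y ⊔ Q := fun x hx => by
      have h1 := mem_img_of_mem (f := autFn γ ∘ g) hx
      rw [hcomp.img_sup] at h1
      refine sup_le (img_le fun y hy => ?_) (img_le fun q hq => ?_) h1
      · show autFn γ (g y) ∈ _
        have hgy : g y ∈ Y := hgi.le (mem_img_of_mem hy)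
        rw [hγY _ hgy]
        exact Subgroup.mem_sup_left (autFn_mem a' hgy)
      · exact Subgroup.mem_sup_right (hγQ _ (hgQ.le (mem_img_of_mem hq)))
    have hψ := hcomp.comp hg' hmm
    refine (mem_autGroup_iff_fn hP.1).2 (fn_predSystem.2 ⟨(mem_autGroup_iff_fn hP.1).1 ha,
      g' ∘ (autFn γ ∘ g), hψ, fun x hx => ?_, (hψ.mono le_sup_right).img_eq_self fun x hx =>
        sc_apply hQsc hψ (Subgroup.mem_sup_right hx) hx, fun q hq => ?_⟩)
    · show g' (autFn γ (g x)) = autFn a x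
      rw [hn _ (Subgroup.mem_sup_left (hgi.le (mem_img_of_mem hx))), hag x hx,
        hg'g _ (Subgroup.mem_sup_left (autFn_mem a hx))]
    · show q⁻¹ * g' (autFn γ (g q)) ∈ R
      have hgq : g q ∈ Q := hgQ.le (mem_img_of_mem hq)
      have hr := hdisp _ hgq
      have hrQ : (g q)⁻¹ * autFn γ (g q) ∈ Y ⊔ Q := Subgroup.mem_sup_right hr.1
      rw [← mul_inv_cancel_left (g q) (autFn γ (g q)), hg'.map_mul (Subgroup.mem_sup_right hgq) hrQ,
        hg'g q (Subgroup.mem_sup_right hq), inv_mul_cancel_left]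
      exact ⟨sc_apply hQsc hg' hrQ hr.1, sc_apply hT hg' hrQ hr.2⟩
  have hRT : R ≤ T := inf_le_right
  have hle : E ≤ D := by
    refine le_of_automizers hTp hEs D ?_ fun P hPT hP hbig => ?_
    · intro α hα
      obtain ⟨β, hβ, γ, hγ, rfl⟩ := exists_residual_decomp hTp hEs (fullyAutomized_top hEs) hα
      refine mul_mem ?_ ?_
      · clear hα
        induction hβ using Subgroup.closure_induction with
        | mem a ha =>
          have hTn := fullyNormalized_of_weaklyClosed (weaklyClosed_of_stronglyClosed hT)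
          obtain ⟨b, hb, hbe, hbc⟩ := hext a a.2
          have hWS : T ⊔ centralizerIn S T ≤ S := sup_le hT.1 centralizerIn_le
          have hbf := (mem_autGroup_iff_fn hWS).1 hb
          have hbT : ∀ y ∈ T, autFn b y = autFn (a : MulAut T) y := fun y hy => by
            rw [autFn_coe b ⟨y, Subgroup.mem_sup_left hy⟩, autFn_coe (a : MulAut T) ⟨y, hy⟩]
            exact hbe ⟨y, hy⟩
          have hl : (a : MulAut T) ∈ liftGroup F E T := Or.inl ⟨a.2, b, hb, ⟨hbf,
            fun y hy => hbT y hy ▸ autFn_mem _ hy, fun u hu => by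
              rw [autFn_coe b ⟨u, Subgroup.mem_sup_right hu⟩]
              exact (hbc ⟨u, Subgroup.mem_sup_right hu⟩ hu).1⟩, hbT⟩
          obtain ⟨h, hhF, hh, hhe⟩ := exists_goodLift (p := p) hTn (centric_top E) hl
            (by rw [Subgroup.orderOf_coe]; exact ha)
          exact hgood hh hhF hRT (centric_top E) hRT (fn_id normalizerIn_le) (img_id T) _ a.2 hhe
        | one => exact one_mem _
        | mul x y _ _ hx hy => exact mul_mem hx hy
        | inv x _ hx => exact inv_mem hx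
      · exact autInducedBy_le_autGroup le_rfl hγ
    have hext' : ∀ α, ExtAut E P α → α ∈ D.autGroup P := by
      rintro α ⟨N, g, hPN, hg, hgα⟩
      refine (mem_autGroup hPT.le).2 (mem_hom_of_fn ((hbig N g ?_ hg).mono hPN.le) fun x => (hgα x).symm)
      haveI := finite_of_le_base hg.le
      exact Set.Finite.card_lt_card (Set.toFinite (N : Set Ω)) hPN
    rcases extClosure_eq_or_essential hTp hEs hPT hP with h | hess
    · rw [← h]
      exact (Subgroup.closure_le _).2 hext'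
    have hPc := hess.1
    have hRP : R ≤ P := normal_le_centricRadical hTp hRN hPc (essential_radical hTp hess)
    have hPS := hPT.le.trans hT.1
    haveI := finite_of_le_base hPS
    obtain ⟨hA, hfc⟩ := fullyNormalized_good hTp hEs hP
    obtain ⟨Y, hPY, hY⟩ := exists_fullyNormalized (F := F) hPS
    obtain ⟨g, hg, -, hgi⟩ := exists_normalizer_map hS (fullyNormalized_good hS hF hY).1
      (fullyNormalized_receptive hS hF hY) hPY
    have hgP := hg.mono (le_normalizerIn hPS)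
    have hYc : E.IsCentric Y := hgi ▸ centric_img hEi hPc hgP
    haveI := finite_of_le_base hY.1
    have hRY : R ≤ Y := by
      have hi : img g R = R := (hgP.mono hRP).img_eq_self fun r hr =>
        ⟨sc_apply hQsc hgP (hRP hr) hr.1, sc_apply hT hgP (hRP hr) hr.2⟩
      rw [← hi, ← hgi]
      exact img_mono hRP
    obtain ⟨e, he, -⟩ := exists_transport hPS hgP hgi
    have hAS : autInducedBy T P ≤ opAut p E P := fun τ hτ => by
      obtain ⟨k, hk⟩ := isPGroup_autInducedBy hTp ⟨τ, hτ⟩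
      exact mem_opAut_of_pow (autInducedBy_le_autGroup hPT.le hτ) (congrArg Subtype.val hk)
    have hOA : opAut p E P ≤ E.autGroup P := Subgroup.map_subtype_le _
    have hlift : opAut p E P ≤ (liftGroup F E Y).comap (MulAut.congr e).toMonoidHom :=
      opAut_closure fun τ hτ ⟨k, hk⟩ => by
        have hτ' := congr_mem hEi hPT.le hgP hgi e he hτ
        obtain ⟨b, hb, hbe, hbu⟩ := exists_lift_pElement hS hw hYc hY hτ' (k := k)
          (by rw [← map_pow, hk, map_one])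
        exact Or.inl ⟨hτ', b, hb, ⟨(mem_autGroup_iff_fn (sup_le hY.1 centralizerIn_le)).1 hb,
          fun y hy => hbe y hy ▸ autFn_mem _ hy, hbu⟩, hbe⟩
    have hco : ∀ a ∈ opAut p E P, Nat.Coprime (orderOf a) p → a ∈ D.autGroup P := by
      intro a ha hac
      obtain ⟨h, hhF, hh, hhe⟩ := exists_goodLift (p := p) hY hYc (hlift ha) (by
        show Nat.Coprime (orderOf (MulAut.congr e a)) p
        rwa [MulEquiv.orderOf_eq])
      refine hgood hh hhF hRY hPc hRP hg hgi a (hOA ha) fun x hx => ?_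
      lift x to P using hx
      rw [← he x, hhe _ (e x).2]
      show autFn (MulAut.congr e a) ((e x : Y) : Ω) = g (autFn a x)
      rw [autFn_coe, autFn_coe, show (MulAut.congr e a) (e x) = e (a x) by simp [MulAut.congr], he]
    intro α hα
    obtain ⟨-, Syl, hSyl⟩ := hA
    let N := (opAut p E P).subgroupOf (E.autGroup P)
    haveI : N.Normal := ⟨fun n hn a => conj_mem_opAut hn a.2⟩
    have hTN : (Syl : Subgroup (E.autGroup P)) ≤ N := by
      rw [hSyl]
      exact fun a ha => hAS ha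
    have hsup : (Subgroup.normalizer ((Syl : Subgroup (E.autGroup P)) : Set (E.autGroup P))) ⊔ N = ⊤ :=
      Sylow.normalizer_sup_eq_top' Syl hTN
    have hmem : (⟨α, hα⟩ : E.autGroup P) ∈
        ((Subgroup.normalizer ((Syl : Subgroup (E.autGroup P)) : Set (E.autGroup P)) ⊔ N : Subgroup _) :
          Set (E.autGroup P)) := by
      rw [hsup]
      exact Subgroup.mem_top _
    rw [Subgroup.mul_normal] at hmem
    obtain ⟨a, ha, o, ho, e'⟩ := hmem
    rw [← show (a : MulAut P) * (o : MulAut P) = α from congrArg Subtype.val e']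
    refine mul_mem ?_ ?_
    · obtain ⟨n, -, hn, hnP⟩ := exists_mem_normalizer_not_mem hTp (le_refl T) hPT
      refine hext' _ (extAut_of_receptive (fullyCentralized_receptive hTp hEs hfc) a.2 hn hnP ?_)
      have hcn : (⟨conjAut P hn.2, autInducedBy_le_autGroup hPT.le (conjAut_mem_autInducedBy hn.2 hn.1)⟩ :
          E.autGroup P) ∈ (Syl : Subgroup (E.autGroup P)) := by
        rw [hSyl]
        exact conjAut_mem_autInducedBy hn.2 hn.1
      have h1 := (Subgroup.mem_normalizer_iff.1 ha _).1 hcn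
      rw [hSyl] at h1
      exact h1
    · haveI : Finite (MulAut P) := Finite.of_injective (fun f : MulAut P => (f : P → P)) DFunLike.coe_injective
      have hnd : ¬ p ∣ (autInducedBy T P).relIndex (opAut p E P) := fun h => by
        apply Syl.not_dvd_index
        rw [hSyl]
        exact h.trans (Dvd.intro _ (Subgroup.relIndex_mul_relIndex _ _ _ hAS hOA))
      let Syl' : Sylow p (opAut p E P) :=
        CfsgLib.Fusion.Basic.sylowSubgroupOf hAS (isPGroup_autInducedBy hTp) hnd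
      have hall : pResidual p (opAut p E P) ⊔ (Syl' : Subgroup (opAut p E P)) ≤
          (D.autGroup P).comap (opAut p E P).subtype := by
        refine sup_le ((Subgroup.closure_le _).2 fun b hb => hco b b.2 ?_) ?_
        · rw [Subgroup.orderOf_coe]
          exact hb
        · rw [CfsgLib.Fusion.Basic.coe_sylowSubgroupOf]
          exact fun b hb => autInducedBy_le_autGroup hPT.le hb
      rw [CfsgLib.Fusion.Basic.pResidual_sup_sylow Syl'] at hall
      exact hall (Subgroup.mem_top (⟨(o : MulAut P), ho⟩ : opAut p E P))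
  exact (fn_predSystem.1 (fn_of_le hle hf)).2

end CfsgLib.Fsys.CompT
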