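import Cfsg.Agent.Lib.FusionSystem.CompTheory.PairNormal
import Cfsg.Prelude.Def_FusionFitting

/-! The generalized Fitting subsystem exists and is normal. -/

set_option autoImplicit false

namespace CfsgLib.Fsys.CompT

open Cfsg Cfsg.FusionSystem CfsgLib.Fsys.WNR
open Cfsg.FusionSystem (centralizerIn normalizerIn)

universe u

variable {Ω : Type u} [Group Ω] {S T U : Subgroup Ω} [Finite S] {F : FusionSystem S} {E : FusionSystem T}
  {D : FusionSystem U} {p : ℕ} [Fact p.Prime]

/-- The layer commutes with the largest normal subgroup. -/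
theorem layer_commute (hS : IsPGroup p S) (hF : F.IsSaturated p) (hE : E.IsLayerOf F p) :
    ∀ x ∈ F.core, ∀ y ∈ T, x * y = y * x := by
  intro x hx y hy
  obtain ⟨φ, hφ, -⟩ := fn_id (F := E) (le_refl T)
  obtain ⟨-, hP, -, -⟩ := CoreLayer.layer_centralized hS hF hE core_normal T hφ
  exact (mem_centralizerIn.1 (hP hy)).2 x hx

/-- The largest normal subgroup meets the layer centrally. -/
theorem layer_inf_central (hS : IsPGroup p S) (hF : F.IsSaturated p) (hE : E.IsLayerOf F p) :
    F.core ⊓ T ≤ (innerFusionSystem F.core).center ∧ F.core ⊓ T ≤ E.center := by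
  have hQ : F.IsNormal F.core := core_normal
  have hEi := hE.1.1.2.2
  haveI := finite_of_le_base hEi.2.1.1
  haveI := finite_of_le_base hQ.1
  refine ⟨le_center (central_iff_fn.2 ⟨inf_le_left, ?_⟩),
    central_of_normal_fixed (CoreLayer.normal_inf hS hQ hEi.2.1 hEi.1 hE.1.1.1) fun P f hf x hx hxW => ?_⟩
  · rintro P f ⟨φ, ⟨hP, g, hg, hφ⟩, hφf⟩
    refine ⟨fun x => g * x * g⁻¹, fn_conj (sup_le hP inf_le_left) hg,
      fun x hx => (hφ ⟨x, hx⟩).symm.trans (hφf ⟨x, hx⟩), fun x hx => ?_⟩
    show g * x * g⁻¹ = x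
    rw [layer_commute hS hF hE g hg x hx.2, mul_inv_cancel_right]
  · obtain ⟨φ, hφ, hφf⟩ := hf
    obtain ⟨-, -, -, ψ, -, hψφ, hψX⟩ := CoreLayer.layer_centralized hS hF hE hQ P hφ
    rw [← hφf ⟨x, hx⟩, ← hψφ ⟨x, hx⟩]
    exact hψX ⟨x, hxW.1⟩

/-- A generalized Fitting subsystem is normal. -/
theorem fitting_normal (hS : IsPGroup p S) (hF : F.IsSaturated p) (hD : D.IsGeneralizedFittingOf F p) :
    D.IsNormalIn F p := by
  obtain ⟨T, E, hE, hprod⟩ := hD
  exact centralProduct_normal hS (Comp.inner_normalIn hS hF core_normal) hE.1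
    (layer_inf_central hS hF hE).1 (layer_inf_central hS hF hE).2 hprod

/-- Every saturated system has a generalized Fitting subsystem. -/
theorem exists_fitting (hS : IsPGroup p S) (hF : F.IsSaturated p) :
    ∃ (U : Subgroup Ω) (D : FusionSystem U), D.IsGeneralizedFittingOf F p := by
  obtain ⟨T, E, hE⟩ := exists_layer hS hF
  obtain ⟨D, -, hD⟩ := exists_normal_product hS (Comp.inner_normalIn hS hF core_normal) hE.1
    (layer_commute hS hF hE) (layer_inf_central hS hF hE).1 (layer_inf_central hS hF hE).2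
  exact ⟨_, D, T, E, hE, hD⟩

end CfsgLib.Fsys.CompT
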