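import Cfsg.Agent.Lib.FusionSystem.CompTheory.Fitting
import Cfsg.Agent.Lib.FusionSystem.ComponentTransport

/-! The layer of a normal subsystem is normal; components are normal in the layer. -/

set_option autoImplicit false

namespace CfsgLib.Fsys.CompT

open Cfsg Cfsg.FusionSystem CfsgLib.Fsys.WNR
open Cfsg.FusionSystem (centralizerIn normalizerIn)

universe u

variable {Ω : Type u} [Group Ω] {S T R : Subgroup Ω} [Finite S] {F : FusionSystem S} {G : FusionSystem T}
  {L : FusionSystem R} {p : ℕ} [Fact p.Prime]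

/-- The automorphisms of a normal subsystem's base carry its layer to itself. -/
theorem layer_transform (hS : IsPGroup p S) (hG : G.IsNormalIn F p) (hL : L.IsLayerOf G p)
    {α : MulAut T} (hα : α ∈ F.autGroup T) :
    (∀ x ∈ R, autFn α x ∈ R) ∧ ∀ {P : Subgroup Ω} {g : Ω → Ω}, Fn L P g →
      ∃ χ, Fn L (img (autFn α) P) χ ∧ ∀ x ∈ P, χ (autFn α x) = autFn α (g x) := by
  have hT := hG.1.2.2.2.1
  have hR : R ≤ T := hL.1.1.2.2.2.1.1
  haveI := finite_of_le_base hT.1
  haveI := finite_of_le_base hR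
  obtain ⟨L', s, hle⟩ := Tr.layer_le_image (hS.to_le hT.1) (Tr.transport_aut hG.1.2.2 (inv_mem hα)) hL
  rw [inv_inv] at s
  have hαf : Fn F R (autFn α⁻¹) := ((mem_autGroup_iff_fn hT.1).1 (inv_mem hα)).mono hR
  have heq : R = Tr.himg (autFn α⁻¹) R :=
    eq_of_le_of_card hαf.img_le_base (subsystem_le hle) (hαf.card_img.le)
  refine ⟨fun x hx => s.mem' x (heq.le hx), fun {P g} hg => ?_⟩
  have hPR : P ≤ R := hg.le
  refine ⟨_, s.bwd P g (hg.of_subsystem hle), fun x hx => ?_⟩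
  show autFn α (g (autFn α⁻¹ (autFn α x))) = _
  rw [autFn_inv_apply α (hR (hPR hx))]

/-- The layer of a normal subsystem is weakly normal. -/
theorem layer_weaklyNormal (hS : IsPGroup p S) (hG : G.IsNormalIn F p) (hL : L.IsLayerOf G p) :
    L.IsWeaklyNormalIn F p := by
  have hF := hG.1.2.1
  have hGi := hG.1.2.2
  have hT := hGi.2.1
  have hLi := hL.1.1.2.2
  have hR : R ≤ T := hLi.2.1.1
  have hRS : R ≤ S := hR.trans hT.1
  haveI := finite_of_le_base hT.1
  haveI := finite_of_le_base hRS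
  have hsc : F.StronglyClosed R := stronglyClosed_iff_fn.2 ⟨hRS, fun P f hf x hx hxR => by
    obtain ⟨α, hα, e, he, hfe⟩ := Invariant.frattini hGi inf_le_right (hf.mono (inf_le_left : P ⊓ T ≤ P))
    rw [hfe x ⟨hx, hR hxR⟩]
    exact (layer_transform hS hG hL hα).1 _ (sc_apply hLi.2.1 he ⟨hx, hR hxR⟩ hxR)⟩
  refine ⟨hL.1.1.1, hF, Meet.invariant_of_fn (fun P φ h => hGi.1 P (hLi.1 P h)) hsc ?_ ?_⟩
  · intro P g a hg ha
    have haf := (mem_autGroup_iff_fn hRS).1 ha
    obtain ⟨α, hα, e, he, hae⟩ := Invariant.frattini hGi hR haf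
    obtain ⟨hαR, hαt⟩ := layer_transform hS hG hL hα
    obtain ⟨αR, -, hαRe⟩ := exists_aut_of_fn (((mem_autGroup_iff_fn hT.1).1 hα).mono hR)
      ((((mem_autGroup_iff_fn hT.1).1 hα).mono hR).img_eq_self hαR)
    have heR : ∀ x ∈ R, e x ∈ R := fun x hx => sc_apply hLi.2.1 he hx hx
    obtain ⟨b, hb, hbe⟩ := exists_aut_of_fn he (he.img_eq_self heR)
    obtain ⟨χ₀, hχ₀, hχ₀e⟩ := Invariant.aut hLi hg.le hg hb
    obtain ⟨χ, hχ, hχe⟩ := hαt hχ₀
    have hb' : ∀ x ∈ R, autFn b x = e x := fun x hx => (autFn_coe b ⟨x, hx⟩).trans (hbe _)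
    have hi : img (autFn α) (img (autFn b) P) = img (autFn a) P := by
      rw [← (((mem_autGroup_iff_fn hR).1 hb).mono hg.le).img_comp]
      exact img_congr fun x hx => by
        show autFn α (autFn b x) = autFn a x
        rw [hb' x (hg.le hx), hae x (hg.le hx)]
    rw [hi] at hχ
    refine ⟨χ, hχ, fun x hx => ?_⟩
    have h1 := hχe _ (mem_img_of_mem (f := autFn b) hx)
    rw [hχ₀e x hx, hb' x (hg.le hx), ← hae x (hg.le hx), hb' _ (hg.mem hx), ← hae _ (hg.mem hx)] at h1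
    exact h1
  · intro P f hP hf
    obtain ⟨α, hα, e, he, hfe⟩ := Invariant.frattini hGi (hP.trans hR) hf
    obtain ⟨β, hβ, l, hl, hel⟩ := Invariant.frattini hLi hP he
    obtain ⟨hαR, -⟩ := layer_transform hS hG hL hα
    have hαf := ((mem_autGroup_iff_fn hT.1).1 hα).mono hR
    obtain ⟨αR, hαR', hαRe⟩ := exists_aut_of_fn hαf (hαf.img_eq_self hαR)
    refine ⟨αR * β, mul_mem hαR' (autGroup_mono' hGi.1 R hβ), l, hl, fun x hx => ?_⟩
    rw [hfe x hx, hel x hx, autFn_mul _ _ (hl.mem hx),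
      autFn_coe αR ⟨_, autFn_mem β (hl.mem hx)⟩, hαRe]

/-- The layer of a normal subsystem is normal. -/
theorem layer_normal (hS : IsPGroup p S) (hG : G.IsNormalIn F p) (hL : L.IsLayerOf G p) :
    L.IsNormalIn F p := by
  have hT := hG.1.2.2.2.1
  have hR : R ≤ T := hL.1.1.2.2.2.1.1
  haveI := finite_of_le_base hT.1
  haveI := finite_of_le_base (hR.trans hT.1)
  have hTp := hS.to_le hT.1
  obtain ⟨N, hN⟩ := exists_pPrimeResidual (hTp.to_le hR) hL.1.1.1
  have hNG := WNR.residual_normal hTp hL.1.1 hN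
  have hsub : L.IsSubsystemOf N := hL.2.2 R N hNG fun U C hC =>
    (CoreLayer.subnormal_le (component_of_le hTp hC hNG.1 (subsystem_le (hL.2.1 U C hC))).1).1
  have he : N = L := system_ext fun P => Set.Subset.antisymm (hN.2.1.1 P) (hsub P)
  exact he ▸ WNR.residual_normal hS (layer_weaklyNormal hS hG hL) hN

end CfsgLib.Fsys.CompT
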