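import Cfsg.Agent.Lib.FusionSystem.CompTheory.CommutingPair

/-! The maps of the ambient system on the product of two commuting normal subsystems. -/

set_option autoImplicit false

namespace CfsgLib.Fsys.CompT

open Cfsg Cfsg.FusionSystem CfsgLib.Fsys.WNR
open Cfsg.FusionSystem (centralizerIn normalizerIn)

universe u

variable {Ω : Type u} [Group Ω] {S T₁ T₂ U : Subgroup Ω} [Finite S] {F : FusionSystem S}
  {E₁ : FusionSystem T₁} {E₂ : FusionSystem T₂} {D : FusionSystem U} {p : ℕ} [Fact p.Prime]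

/-- An automorphism preserving a subgroup moved within `Z` and fixing it is induced, if `Z` is invariant. -/
theorem mem_autInducedBy_of_invariant {R : Subgroup Ω} {E : FusionSystem R} [Finite R] (hR : IsPGroup p R)
    {Y Z : Subgroup Ω} (hA : E.IsFullyAutomized p Y) (hY : Y ≤ R) (hZY : Z ≤ Y)
    (hinv : ∀ b ∈ E.autGroup Y, ∀ z ∈ Z, autFn b z ∈ Z) {a : MulAut Y} (ha : a ∈ E.autGroup Y)
    (hafix : ∀ z ∈ Z, autFn a z = z) (had : ∀ y ∈ Y, y⁻¹ * autFn a y ∈ Z) : a ∈ autInducedBy R Y := by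
  have hmul : ∀ {b : MulAut Y}, b ∈ E.autGroup Y → ∀ {x z : Ω}, x ∈ Y → z ∈ Z →
      autFn b (x * z) = autFn b x * autFn b z := fun {b} hb {x z} hx hz =>
    ((mem_autGroup_iff_fn hY).1 hb).map_mul hx (hZY hz)
  let A₂ : Subgroup (MulAut Y) :=
    { carrier := {b | b ∈ E.autGroup Y ∧ (∀ z ∈ Z, autFn b z = z) ∧ ∀ y ∈ Y, y⁻¹ * autFn b y ∈ Z}
      one_mem' := ⟨one_mem _, fun z hz => autFn_id (hZY hz),
        fun y hy => by rw [autFn_id hy, inv_mul_cancel]; exact one_mem _⟩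
      mul_mem' := fun {b c} hb hc => ⟨mul_mem hb.1 hc.1,
        fun z hz => by rw [autFn_mul _ _ (hZY hz), hc.2.1 z hz, hb.2.1 z hz], fun y hy => by
        have hz := hc.2.2 y hy
        rw [autFn_mul _ _ hy, ← mul_inv_cancel_left y (autFn c y), hmul hb.1 hy hz, hb.2.1 _ hz, ← mul_assoc]
        exact mul_mem (hb.2.2 y hy) hz⟩
      inv_mem' := fun {b} hb => ⟨inv_mem hb.1,
        fun z hz => by conv_lhs => rw [← hb.2.1 z hz, autFn_inv_apply b (hZY hz)],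
        fun y hy => by
        have h := inv_mem (hb.2.2 _ (autFn_mem b⁻¹ hy))
        rw [autFn_apply_inv b hy] at h
        simpa using h⟩ }
  haveI := finite_of_le_base (hZY.trans hY)
  obtain ⟨K, hK⟩ := IsPGroup.iff_card.1 (hR.to_le (hZY.trans hY))
  obtain ⟨γ, hγ, hγA⟩ := exists_conj_into hR hA (T := A₂) (fun b hb => hb.1) (fun ⟨b, hb⟩ => ⟨K, Subtype.ext (by
    show b ^ p ^ K = 1
    rw [← hK]
    exact pow_card_eq_one_of_fix hZY hb.2.1 hb.2.2)⟩)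
  have hmem : γ⁻¹ * a * γ⁻¹⁻¹ ∈ A₂ := by
    refine ⟨mul_mem (mul_mem (inv_mem hγ) ha) (inv_mem (inv_mem hγ)), fun z hz => ?_, fun y hy => ?_⟩
    · rw [autFn_mul _ _ (hZY hz), autFn_mul _ _ (autFn_mem _ (hZY hz)),
        hafix _ (hinv _ (inv_mem (inv_mem hγ)) z hz), autFn_apply_inv γ⁻¹ (hZY hz)]
    · have hv := autFn_mem γ⁻¹⁻¹ hy
      have hz := had _ hv
      rw [autFn_mul _ _ hy, autFn_mul _ _ hv, ← mul_inv_cancel_left (autFn γ⁻¹⁻¹ y) (autFn a (autFn γ⁻¹⁻¹ y)),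
        hmul (inv_mem hγ) hv hz, autFn_apply_inv γ⁻¹ hy, inv_mul_cancel_left]
      exact hinv _ (inv_mem hγ) _ hz
  have h := hγA _ hmem
  simpa [mul_assoc] using h

/-- The map is an automorphism of the base following a map of the subsystem. -/
def Dec (F : FusionSystem S) (D : FusionSystem U) (P : Subgroup Ω) (f : Ω → Ω) : Prop :=
  ∃ α ∈ F.autGroup U, ∃ e : Ω → Ω, Fn D P e ∧ ∀ x ∈ P, f x = autFn α (e x)

omit [Finite S] in
theorem Dec.congr {P : Subgroup Ω} {f g : Ω → Ω} (h : Dec F D P f) (he : ∀ x ∈ P, f x = g x) :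
    Dec F D P g := by
  obtain ⟨α, hα, e, he', hfe⟩ := h
  exact ⟨α, hα, e, he', fun x hx => (he x hx).symm.trans (hfe x hx)⟩

omit [Finite S] in
theorem Dec.mono {P R : Subgroup Ω} {f : Ω → Ω} (h : Dec F D P f) (hR : R ≤ P) : Dec F D R f := by
  obtain ⟨α, hα, e, he', hfe⟩ := h
  exact ⟨α, hα, e, he'.mono hR, fun x hx => hfe x (hR hx)⟩

namespace Pair

variable (pr : Pair F E₁ E₂ D p)
include pr

omit [Fact p.Prime] in
/-- An automorphism of the product restricts to the first factor. -/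
theorem exists_restrict_aut {α : MulAut U} (hα : α ∈ F.autGroup U) :
    ∃ a ∈ F.autGroup T₁, ∀ x ∈ T₁, autFn a x = autFn α x := by
  have hU : U ≤ S := subsystem_le pr.sub
  haveI := finite_of_le_base pr.sc₁.1
  have hf := ((mem_autGroup_iff_fn hU).1 hα).mono pr.cp.left_le
  obtain ⟨a, ha, hae⟩ := exists_aut_of_fn hf (hf.img_eq_self fun x hx => sc_apply pr.sc₁ hf hx hx)
  exact ⟨a, ha, fun x hx => (autFn_coe a ⟨x, hx⟩).trans (hae _)⟩

omit [Fact p.Prime] in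
/-- The automorphisms of the base transport the maps of the product. -/
theorem transform {α : MulAut U} (hα : α ∈ F.autGroup U) {P : Subgroup Ω} {g : Ω → Ω} (hg : Fn D P g) :
    ∃ χ : Ω → Ω, Fn D (img (autFn α) P) χ ∧ ∀ x ∈ P, χ (autFn α x) = autFn α (g x) := by
  have hU : U ≤ S := subsystem_le pr.sub
  have hαf := (mem_autGroup_iff_fn hU).1 hα
  obtain ⟨hP, P₁, P₂, f₁, f₂, h₁, h₂, hge⟩ := pr.cp.elim P g hg
  obtain ⟨a₁, ha₁, ha₁e⟩ := pr.exists_restrict_aut hα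
  obtain ⟨a₂, ha₂, ha₂e⟩ := pr.symm.exists_restrict_aut hα
  obtain ⟨χ₁, hχ₁, hχ₁e⟩ := Invariant.aut pr.n₁.1.2.2 h₁.le h₁ ha₁
  obtain ⟨χ₂, hχ₂, hχ₂e⟩ := Invariant.aut pr.n₂.1.2.2 h₂.le h₂ ha₂
  have hP' : img (autFn α) P ≤ U := img_le fun x hx => autFn_mem α (hP hx)
  have hpre : ∀ x ∈ T₁, ∀ y ∈ T₂, x * y ∈ img (autFn α) P → autFn a₁⁻¹ x * autFn a₂⁻¹ y ∈ P ∧
      autFn α (autFn a₁⁻¹ x * autFn a₂⁻¹ y) = x * y := fun x hx y hy hxy => by
    have hx' := autFn_mem a₁⁻¹ hx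
    have hy' := autFn_mem a₂⁻¹ hy
    have e : autFn α (autFn a₁⁻¹ x * autFn a₂⁻¹ y) = x * y := by
      rw [hαf.map_mul (pr.cp.left_le hx') (pr.cp.right_le hy'), ← ha₁e _ hx', ← ha₂e _ hy',
        autFn_apply_inv a₁ hx, autFn_apply_inv a₂ hy]
    obtain ⟨z, hz, hze⟩ := (hαf.mono hP).mem_img.1 hxy
    refine ⟨?_, e⟩
    rwa [hαf.inj (U.mul_mem (pr.cp.left_le hx') (pr.cp.right_le hy')) (hP hz) (e.trans hze.symm)]
  obtain ⟨χ, hχ, hχe⟩ := pr.cp.intro (img (autFn α) P) _ _ χ₁ χ₂ hP' hχ₁ hχ₂ fun x hx y hy hxy => by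
    obtain ⟨h, -⟩ := hpre x hx y hy hxy
    obtain ⟨hx', hy', -⟩ := hge _ (autFn_mem a₁⁻¹ hx) _ (autFn_mem a₂⁻¹ hy) h
    refine ⟨?_, ?_⟩
    · rw [← autFn_apply_inv a₁ hx]; exact mem_img_of_mem hx'
    · rw [← autFn_apply_inv a₂ hy]; exact mem_img_of_mem hy'
  refine ⟨χ, hχ, fun z hz => ?_⟩
  obtain ⟨x, hx, y, hy, rfl⟩ := pr.cp.decomp z (hP hz)
  obtain ⟨hx', hy', hval⟩ := hge x hx y hy hz
  have e : autFn α (x * y) = autFn a₁ x * autFn a₂ y := by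
    rw [hαf.map_mul (pr.cp.left_le hx) (pr.cp.right_le hy), ← ha₁e x hx, ← ha₂e y hy]
  rw [e, hχe _ (autFn_mem a₁ hx) _ (autFn_mem a₂ hy) (e ▸ mem_img_of_mem hz), hχ₁e x hx', hχ₂e y hy', hval,
    hαf.map_mul (pr.cp.left_le (h₁.mem hx')) (pr.cp.right_le (h₂.mem hy')), ← ha₁e _ (h₁.mem hx'),
    ← ha₂e _ (h₂.mem hy')]

omit [Fact p.Prime] in
theorem dec_comp {P R : Subgroup Ω} {f g : Ω → Ω} (hm : ∀ x ∈ P, f x ∈ R) (hf : Dec F D P f)
    (hg : Dec F D R g) : Dec F D P (g ∘ f) := by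
  obtain ⟨α, hα, a, ha, hfa⟩ := hf
  obtain ⟨β, hβ, b, hb, hgb⟩ := hg
  obtain ⟨χ, hχ, hχe⟩ := pr.transform (inv_mem hα) hb
  refine ⟨β * α, mul_mem hβ hα, χ ∘ a, ha.comp hχ fun x hx => ?_, fun x hx => ?_⟩
  · rw [← autFn_inv_apply α (ha.mem hx), ← hfa x hx]
    exact mem_img_of_mem (hm x hx)
  · have h := hχe _ (hm x hx)
    rw [hfa x hx, autFn_inv_apply α (ha.mem hx), ← hfa x hx] at h
    show g (f x) = autFn (β * α) (χ (a x))
    rw [h, autFn_mul _ _ (autFn_mem _ (hb.mem (hm x hx))), autFn_apply_inv α (hb.mem (hm x hx)),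
      hgb _ (hm x hx)]

omit [Fact p.Prime] in
theorem dec_inv {P : Subgroup Ω} {f g : Ω → Ω} (hf : Fn F P f) (hgf : ∀ x ∈ P, g (f x) = x)
    (h : Dec F D P f) : Dec F D (img f P) g := by
  obtain ⟨α, hα, a, ha, hfa⟩ := h
  obtain ⟨k, hk, hka, -⟩ := ha.exists_inv
  obtain ⟨χ, hχ, hχe⟩ := pr.transform hα hk
  have hi : img (autFn α) (img a P) = img f P := by
    rw [← ha.img_comp]
    exact img_congr fun x hx => (hfa x hx).symm
  rw [hi] at hχ
  refine ⟨α⁻¹, inv_mem hα, χ, hχ, fun y hy => ?_⟩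
  obtain ⟨x, hx, rfl⟩ := hf.mem_img.1 hy
  rw [hgf x hx, hfa x hx, hχe _ (mem_img_of_mem hx), hka x hx, autFn_inv_apply α (ha.le hx)]

/-- A map moving the conjugate of an element of the normalizer within the intersection is decomposable,
if the maps of larger subgroups are. -/
theorem dec_of_normalizer {P : Subgroup Ω} (hP : P ≤ U) (hW : T₁ ⊓ T₂ ≤ P) {q : Ω → Ω} (hq : Fn F P q)
    {x : Ω} (hx : x ∈ U) (hxn : x ∈ Subgroup.normalizer (P : Set Ω)) (hxP : x ∉ P)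
    (hmove : ∀ z ∈ P, (q (x * z * x⁻¹))⁻¹ * (x * q z * x⁻¹) ∈ T₁ ⊓ T₂)
    (ih : ∀ R ≤ U, Nat.card P < Nat.card R → ∀ f, Fn F R f → Dec F D R f) : Dec F D P q := by
  classical
  have hscU := pr.sc
  have hPS := hP.trans hscU.1
  haveI := finite_of_le_base hscU.1
  haveI := finite_of_le_base hPS
  set W := T₁ ⊓ T₂
  set P' := img q P
  have hP'U : P' ≤ U := img_le fun z hz => sc_apply hscU hq hz (hP hz)
  have hP'S := hP'U.trans hscU.1
  haveI := finite_of_le_base hP'S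
  have hscW := pr.sc_inf
  have hWP' : W ≤ P' := by
    have h : img q W = W := (hq.mono hW).img_eq_self fun w hw => sc_apply hscW hq (hW hw) hw
    exact h.ge.trans (img_mono hW)
  have hxS : x ∈ S := hscU.1 hx
  have hcx : ∀ z ∈ P, x * z * x⁻¹ ∈ P := fun z hz => (mem_normalizer_iff'.1 hxn).1 z hz
  have hxn' : x ∈ normalizerIn S P' := ⟨hxS, mem_normalizer_of_map_le fun v hv => by
    obtain ⟨z, hz, rfl⟩ := hq.mem_img.1 hv
    simpa using P'.mul_mem (mem_img_of_mem (f := q) (hcx z hz)) (hWP' (hmove z hz))⟩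
  obtain ⟨Q, hP'Q, hQ⟩ := exists_fullyNormalized (F := F) hP'S
  obtain ⟨hQA, -⟩ := fullyNormalized_good pr.isp pr.sat hQ
  have hrec := fullyNormalized_receptive pr.isp pr.sat hQ
  obtain ⟨φ, hφ, -, hφi⟩ := exists_normalizer_map pr.isp hQA hrec hP'Q
  have hPN : P' ≤ normalizerIn S P' := le_normalizerIn hP'S
  have hφ' := hφ.mono hPN
  have hQU : Q ≤ U := hφi ▸ img_le fun v hv => sc_apply hscU hφ' hv (hP'U hv)
  have hWQ : W ≤ Q := by
    have h : img φ W = W := (hφ'.mono hWP').img_eq_self fun w hw => sc_apply hscW hφ' (hWP' hw) hw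
    rw [← h, ← hφi]
    exact img_mono hWP'
  have hcomp : Fn F P (φ ∘ q) := hq.comp hφ' fun z hz => mem_img_of_mem hz
  have hci : img (φ ∘ q) P = Q := by rw [hq.img_comp]; exact hφi
  -- the automorphism
  obtain ⟨k, hk, hkq, hki⟩ := hcomp.exists_inv
  rw [hci] at hk hki
  have hkP : ∀ v ∈ Q, k v ∈ P := fun v hv => hki.le (mem_img_of_mem hv)
  have hφx : φ x ∈ normalizerIn S Q := hφ.map_normalizer hPN hφi hxn' hxn'.2
  have hcφ : ∀ v ∈ Q, (φ x)⁻¹ * v * (φ x)⁻¹⁻¹ ∈ Q := fun v hv => by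
    rw [inv_inv]; exact (mem_normalizer_iff'.1 hφx.2).2 v hv
  set τ : Ω → Ω := fun v => (φ ∘ q) (x * k ((φ x)⁻¹ * v * (φ x)⁻¹⁻¹) * x⁻¹) with hτ
  have hτf : Fn F Q τ :=
    (((fn_conj hQ.1 (S.inv_mem hφx.1)).comp hk hcφ).comp (fn_conj (F := F) hPS hxS)
      fun v hv => hkP _ (hcφ v hv)).comp hcomp fun v hv => hcx _ (hkP _ (hcφ v hv))
  have hτQ : ∀ v ∈ Q, τ v ∈ Q := fun v hv => hci.le (mem_img_of_mem (hcx _ (hkP _ (hcφ v hv))))
  obtain ⟨a, ha, hae⟩ := exists_aut_of_fn hτf (hτf.img_eq_self hτQ)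
  have hτz : ∀ z ∈ P, τ (φ x * φ (q z) * (φ x)⁻¹) = φ (q (x * z * x⁻¹)) := fun z hz => by
    show (φ ∘ q) (x * k ((φ x)⁻¹ * (φ x * φ (q z) * (φ x)⁻¹) * (φ x)⁻¹⁻¹) * x⁻¹) = _
    rw [show (φ x)⁻¹ * (φ x * φ (q z) * (φ x)⁻¹) * (φ x)⁻¹⁻¹ = (φ ∘ q) z by simp only [Function.comp]; group,
      hkq z hz]
    rfl
  have hrep : ∀ v ∈ Q, ∃ z ∈ P, v = φ x * φ (q z) * (φ x)⁻¹ := fun v hv => by
    obtain ⟨z, hz, hze⟩ := hcomp.mem_img.1 (hci.ge (hcφ v hv))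
    refine ⟨z, hz, ?_⟩
    rw [show φ (q z) = (φ x)⁻¹ * v * (φ x)⁻¹⁻¹ from hze]
    group
  have hmoveτ : ∀ v ∈ Q, v⁻¹ * τ v ∈ W := fun v hv => by
    obtain ⟨z, hz, rfl⟩ := hrep v hv
    have hqz : q z ∈ P' := mem_img_of_mem hz
    have hqz' : q (x * z * x⁻¹) ∈ P' := mem_img_of_mem (hcx z hz)
    have hw := W.inv_mem (hmove z hz)
    rw [mul_inv_rev, inv_inv] at hw
    have hwN : (x * q z * x⁻¹)⁻¹ * q (x * z * x⁻¹) ∈ normalizerIn S P' := hPN (hWP' hw)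
    rw [hτz z hz, ← hφ.map_conj hxn' (hPN hqz),
      ← hφ.map_inv ((normalizerIn S P').mul_mem ((normalizerIn S P').mul_mem hxn' (hPN hqz))
        ((normalizerIn S P').inv_mem hxn')),
      ← hφ.map_mul ((normalizerIn S P').inv_mem ((normalizerIn S P').mul_mem
        ((normalizerIn S P').mul_mem hxn' (hPN hqz)) ((normalizerIn S P').inv_mem hxn'))) (hPN hqz')]
    exact sc_apply hscW hφ hwN hw
  have hfixW : ∀ w ∈ W, τ w = w := fun w hw => by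
    obtain ⟨v, hv, hve⟩ := (hφ'.mono hWP').mem_img.1
      (((hφ'.mono hWP').img_eq_self fun u hu => sc_apply hscW hφ' (hWP' hu) hu).ge hw)
    obtain ⟨z, hz, hzv⟩ := (hq.mono hW).mem_img.1
      (((hq.mono hW).img_eq_self fun u hu => sc_apply hscW hq (hW hu) hu).ge hv)
    have e1 : φ x * φ (q z) * (φ x)⁻¹ = w := by
      rw [← hφ.map_conj hxn' (hPN (mem_img_of_mem (hW hz))), hzv, pr.inf_commute hv hx,
        mul_inv_cancel_right, hve]
    have e2 : φ (q (x * z * x⁻¹)) = w := by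
      rw [pr.inf_commute hz hx, mul_inv_cancel_right, hzv, hve]
    have h := hτz z (hW hz)
    rwa [e1, e2] at h
  have hinv : ∀ b ∈ F.autGroup Q, ∀ z ∈ W, autFn b z ∈ W := fun b hb z hz =>
    sc_apply hscW ((mem_autGroup_iff_fn hQ.1).1 hb) (hWQ hz) hz
  obtain ⟨s, hs, hsa⟩ := mem_autInducedBy.1 (mem_autInducedBy_of_invariant pr.isp hQA hQ.1 hWQ hinv ha
    (fun z hz => (autFn_coe a ⟨z, hWQ hz⟩).trans ((hae _).trans (hfixW z hz)))
    (fun y hy => by rw [autFn_coe a ⟨y, hy⟩, hae]; exact hmoveτ y hy))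
  obtain ⟨N, g, hg, hPgN, hN, hge⟩ := receptive_extend hrec hcomp hci
  have hxN : x ∈ N := (hN x).2 ⟨hxS, hxn, s * φ x, S.mul_mem hs hφx.1, fun z hz => by
    show φ (q (x * z * x⁻¹)) = s * φ x * φ (q z) * (s * φ x)⁻¹
    have hv : φ x * φ (q z) * (φ x)⁻¹ ∈ Q :=
      (mem_normalizer_iff'.1 hφx.2).1 _ (hci.le (mem_img_of_mem hz))
    rw [← hτz z hz, ← show ((a ⟨_, hv⟩ : Q) : Ω) = τ _ from hae _, hsa]
    group⟩
  set R := P ⊔ Subgroup.zpowers x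
  have hRU : R ≤ U := sup_le hP (Subgroup.zpowers_le.2 hx)
  haveI := finite_of_le_base (hRU.trans hscU.1)
  have hlt : Nat.card P < Nat.card R :=
    Set.Finite.card_lt_card (Set.toFinite (R : Set Ω)) (SetLike.coe_ssubset_coe.2 <| lt_of_le_of_ne le_sup_left fun e =>
      hxP (e ▸ Subgroup.mem_sup_right (Subgroup.mem_zpowers x) : x ∈ P))
  have hdg : Dec F D P g :=
    (ih R hRU hlt g (hg.mono (sup_le hPgN (Subgroup.zpowers_le.2 hxN)))).mono le_sup_left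
  -- the other map
  have hP'lt : P' < U := lt_of_le_of_ne hP'U fun e => hxP (by
    have hPU : P = U := eq_of_le_of_card hscU.1 hP (by rw [← hq.card_img]; exact le_of_eq (by rw [← e]))
    rw [hPU]
    exact hx)
  obtain ⟨n, hnU, hnn, hnP⟩ := exists_mem_normalizer_not_mem pr.isp hscU.1 hP'lt
  set R' := P' ⊔ Subgroup.zpowers n
  have hR'U : R' ≤ U := sup_le hP'U (Subgroup.zpowers_le.2 hnU)
  haveI := finite_of_le_base (hR'U.trans hscU.1)
  have hlt' : Nat.card P < Nat.card R' := by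
    rw [← hq.card_img]
    exact Set.Finite.card_lt_card (Set.toFinite (R' : Set Ω)) (SetLike.coe_ssubset_coe.2 <| lt_of_le_of_ne le_sup_left fun e =>
      hnP (e ▸ Subgroup.mem_sup_right (Subgroup.mem_zpowers n) : n ∈ img q P))
  have hdφ : Dec F D P' φ :=
    (ih R' hR'U hlt' φ (hφ.mono (sup_le hPN (Subgroup.zpowers_le.2 hnn)))).mono le_sup_left
  obtain ⟨ψ, hψ, hψφ, -⟩ := hφ'.exists_inv
  have hdψ := pr.dec_inv hφ' hψφ hdφ
  refine (pr.dec_comp (fun z hz => ?_) hdg hdψ).congr fun z hz => ?_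
  · rw [hge z hz, hφi]
    exact hci.le (mem_img_of_mem hz)
  · show ψ (g z) = q z
    rw [hge z hz]
    exact hψφ _ (mem_img_of_mem hz)

end Pair

end CfsgLib.Fsys.CompT
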