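import Cfsg.Agent.Lib.FusionSystem.CompTheory.PairFrattini

/-! The product of two commuting normal subsystems is invariant. -/

set_option autoImplicit false

namespace CfsgLib.Fsys.CompT

open Cfsg Cfsg.FusionSystem CfsgLib.Fsys.WNR
open Cfsg.FusionSystem (centralizerIn normalizerIn)

universe u

variable {Ω : Type u} [Group Ω] {S T₁ T₂ U : Subgroup Ω} [Finite S] {F : FusionSystem S}
  {E₁ : FusionSystem T₁} {E₂ : FusionSystem T₂} {D : FusionSystem U} {p : ℕ} [Fact p.Prime]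

namespace Pair

variable (pr : Pair F E₁ E₂ D p)
include pr

omit [Fact p.Prime] in
/-- Undo an automorphism of the base and a map of the product. -/
theorem dec_of_factor {P R : Subgroup Ω} {f q ψ : Ω → Ω} {α : MulAut U} (hα : α ∈ F.autGroup U)
    (hψ : Fn D R ψ) (hm : ∀ z ∈ P, q z ∈ R) (hfq : ∀ z ∈ P, f z = autFn α (ψ (q z))) (hq : Dec F D P q) :
    Dec F D P f := by
  have hψd : Dec F D R ψ := ⟨1, one_mem _, ψ, hψ, fun x hx => (autFn_id (hψ.mem hx)).symm⟩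
  have hαd : Dec F D U (autFn α) := ⟨α, hα, id, fn_id le_rfl, fun x _ => rfl⟩
  exact (pr.dec_comp (fun z hz => hψ.mem (hm z hz)) (pr.dec_comp hm hq hψd) hαd).congr
    fun z hz => (hfq z hz).symm

set_option maxHeartbeats 400000 in
/-- The case of a projection outside the subgroup. -/
theorem dec_projection {P : Subgroup Ω} (hP : P ≤ U) (hW : T₁ ⊓ T₂ ≤ P) (hx : ¬ T₁ ⊓ (P ⊔ T₂) ≤ P)
    {f : Ω → Ω} (hf : Fn F P f) (ih : ∀ R ≤ U, Nat.card P < Nat.card R → ∀ f, Fn F R f → Dec F D R f) :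
    Dec F D P f := by
  have hscU := pr.sc
  have hU := hscU.1
  have hPS := hP.trans hU
  haveI := finite_of_le_base hU
  haveI := finite_of_le_base hPS
  set P₁ := T₁ ⊓ (P ⊔ T₂)
  obtain ⟨g, hg, hge⟩ := exists_extend_mod pr.isp pr.sat pr.sc₂ hf
  obtain ⟨a, ha, e₁, he₁, hge₁⟩ := Invariant.frattini pr.n₁.1.2.2 inf_le_left (hg.mono (inf_le_right : P₁ ≤ _))
  obtain ⟨α, hα, hαa⟩ := pr.exists_ext_aut ha
  obtain ⟨ψ, hψ, hψe, hψT⟩ := pr.exists_left_map he₁ (le_inf inf_le_left (inf_le_right.trans le_sup_right))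
  have hαf := (mem_autGroup_iff_fn hU).1 hα
  have hαi := (mem_autGroup_iff_fn hU).1 (inv_mem hα)
  have hval : ∀ z ∈ P, ∃ v ∈ P₁ ⊔ T₂, z⁻¹ * v ∈ T₂ ∧ f z = autFn α (ψ v) := by
    intro z hz
    obtain ⟨x, hx, y, hy, rfl⟩ := pr.cp.decomp z (hP hz)
    have hx₁ : x ∈ P₁ := ⟨hx, by
      simpa using (P ⊔ T₂).mul_mem (Subgroup.mem_sup_left hz) (Subgroup.inv_mem _ (Subgroup.mem_sup_right hy))⟩
    have hyg : g y ∈ T₂ := sc_apply pr.sc₂ hg (Subgroup.mem_sup_right hy) hy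
    set t := g y * ((f (x * y))⁻¹ * g (x * y))⁻¹ with ht
    have htT : t ∈ T₂ := T₂.mul_mem hyg (T₂.inv_mem (hge _ hz))
    have hft : f (x * y) = g x * t := by
      rw [ht, hg.map_mul hx₁.2 (Subgroup.mem_sup_right hy)]
      group
    set t' := autFn α⁻¹ t
    have ht' : t' ∈ T₂ := sc_apply pr.sc₂ hαi (pr.cp.right_le htT) htT
    refine ⟨x * t', Subgroup.mul_mem_sup hx₁ ht', ?_, ?_⟩
    · rw [show (x * y)⁻¹ * (x * t') = y⁻¹ * t' by group]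
      exact T₂.mul_mem (T₂.inv_mem hy) ht'
    · rw [hψ.map_mul (Subgroup.mem_sup_left hx₁) (Subgroup.mem_sup_right ht'), hψe x hx₁, hψT t' ht',
        hαf.map_mul (pr.cp.left_le (he₁.mem hx₁)) (pr.cp.right_le ht'), hαa _ (he₁.mem hx₁), ← hge₁ x hx₁,
        show autFn α t' = t from autFn_apply_inv α (pr.cp.right_le htT)]
      exact hft
  obtain ⟨k, hk, hkψ, hki⟩ := hψ.exists_inv
  set q : Ω → Ω := k ∘ (autFn α⁻¹ ∘ f) with hqdef
  have hq₁ : ∀ z ∈ P, q z ∈ P₁ ⊔ T₂ ∧ z⁻¹ * q z ∈ T₂ ∧ f z = autFn α (ψ (q z)) := fun z hz => by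
    obtain ⟨v, hv, hv₁, hv₂⟩ := hval z hz
    have e : q z = v := by
      show k (autFn α⁻¹ (f z)) = v
      rw [hv₂, autFn_inv_apply α (hψ.mem hv), hkψ v hv]
    rw [e]
    exact ⟨hv, hv₁, hv₂⟩
  have hq : Fn F P q := by
    refine (hf.comp hαi fun z hz => sc_apply hscU hf hz (hP hz)).comp (hk.of_subsystem pr.sub) fun z hz => ?_
    obtain ⟨v, hv, -, hv₂⟩ := hval z hz
    show autFn α⁻¹ (f z) ∈ _
    rw [hv₂, autFn_inv_apply α (hψ.mem hv)]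
    exact mem_img_of_mem hv
  refine pr.dec_of_factor hα hψ (fun z hz => (hq₁ z hz).1) (fun z hz => (hq₁ z hz).2.2) ?_
  -- a normalizing element
  have hP₁U : P ⊔ P₁ ≤ U := sup_le hP (inf_le_left.trans pr.cp.left_le)
  have hlt : P < P ⊔ P₁ := lt_of_le_of_ne le_sup_left fun e => hx (e ▸ le_sup_right)
  obtain ⟨n, hn, hnn, hnP⟩ := exists_mem_normalizer_not_mem pr.isp (hP₁U.trans hU) hlt
  have hPn : P ≤ Subgroup.normalizer (P₁ : Set Ω) := fun s hs => by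
    haveI := finite_of_le_base ((inf_le_left : P₁ ≤ T₁).trans pr.sc₁.1)
    exact mem_normalizer_of_map_le fun x hx => ⟨sc_conj pr.sc₁ (hPS hs) hx.1,
      (P ⊔ T₂).mul_mem ((P ⊔ T₂).mul_mem (Subgroup.mem_sup_left hs) hx.2)
        (Subgroup.inv_mem _ (Subgroup.mem_sup_left hs))⟩
  have hn' : n ∈ ((P ⊔ P₁ : Subgroup Ω) : Set Ω) := hn
  rw [Subgroup.coe_mul_of_left_le_normalizer_right P P₁ hPn] at hn'
  obtain ⟨z₀, hz₀, x, hx₁, rfl⟩ := hn'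
  have hxn : x ∈ Subgroup.normalizer (P : Set Ω) := by
    have h := Subgroup.mul_mem _ (Subgroup.inv_mem _ (Subgroup.le_normalizer hz₀)) hnn.2
    rwa [inv_mul_cancel_left] at h
  refine pr.dec_of_normalizer hP hW hq (pr.cp.left_le hx₁.1) hxn (fun h => hnP (P.mul_mem hz₀ h))
    (fun z hz => ⟨?_, ?_⟩) ih
  · have hxS : x ∈ S := pr.sc₁.1 hx₁.1
    have hcz : x * z * x⁻¹ * z⁻¹ ∈ P := P.mul_mem ((mem_normalizer_iff'.1 hxn).1 z hz) (P.inv_mem hz)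
    have hcT : x * z * x⁻¹ * z⁻¹ ∈ T₁ := by
      rw [show x * z * x⁻¹ * z⁻¹ = x * (z * x⁻¹ * z⁻¹) by group]
      exact T₁.mul_mem hx₁.1 (sc_conj pr.sc₁ (hPS hz) (T₁.inv_mem hx₁.1))
    have hw : x * q z * x⁻¹ * (q z)⁻¹ ∈ T₁ := by
      rw [show x * q z * x⁻¹ * (q z)⁻¹ = x * (q z * x⁻¹ * (q z)⁻¹) by group]
      exact T₁.mul_mem hx₁.1 (sc_conj pr.sc₁ (hq.mem hz) (T₁.inv_mem hx₁.1))
    have e : q (x * z * x⁻¹) = q (x * z * x⁻¹ * z⁻¹) * q z := by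
      rw [← hq.map_mul hcz hz, inv_mul_cancel_right]
    rw [e, show (q (x * z * x⁻¹ * z⁻¹) * q z)⁻¹ * (x * q z * x⁻¹) =
      (q z)⁻¹ * ((q (x * z * x⁻¹ * z⁻¹))⁻¹ * (x * q z * x⁻¹ * (q z)⁻¹)) * (q z)⁻¹⁻¹ by group]
    exact sc_conj pr.sc₁ (S.inv_mem (hq.mem hz))
      (T₁.mul_mem (T₁.inv_mem (sc_apply pr.sc₁ hq hcz hcT)) hw)
  · have hc := (mem_normalizer_iff'.1 hxn).1 z hz
    have h1 := T₂.inv_mem (hq₁ _ hc).2.1
    have h2 := sc_conj pr.sc₂ (pr.sc₁.1 hx₁.1) (hq₁ z hz).2.1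
    have h3 := T₂.mul_mem h1 h2
    rwa [show ((x * z * x⁻¹)⁻¹ * q (x * z * x⁻¹))⁻¹ * (x * (z⁻¹ * q z) * x⁻¹)
      = (q (x * z * x⁻¹))⁻¹ * (x * q z * x⁻¹) by group] at h3

set_option maxHeartbeats 400000 in
/-- The case of a product of subgroups of the factors. -/
theorem dec_product {P : Subgroup Ω} (hP : P ≤ U) (hW : T₁ ⊓ T₂ ≤ P)
    (hprod : ∀ x ∈ T₁, ∀ y ∈ T₂, x * y ∈ P → x ∈ P ∧ y ∈ P) (hx : ¬ T₂ ≤ P)
    {f : Ω → Ω} (hf : Fn F P f) (ih : ∀ R ≤ U, Nat.card P < Nat.card R → ∀ f, Fn F R f → Dec F D R f) :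
    Dec F D P f := by
  have hscU := pr.sc
  have hU := hscU.1
  have hPS := hP.trans hU
  haveI := finite_of_le_base hU
  haveI := finite_of_le_base hPS
  set B := T₂ ⊓ P
  obtain ⟨a, ha, e₂, he₂, hfe₂⟩ := Invariant.frattini pr.n₂.1.2.2 inf_le_left (hf.mono (inf_le_right : B ≤ P))
  obtain ⟨α, hα, hαa⟩ := pr.symm.exists_ext_aut ha
  obtain ⟨ψ, hψ, hψe, hψT⟩ := pr.symm.exists_left_map he₂
    (le_inf inf_le_left (le_trans (inf_comm T₂ T₁).le hW))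
  have hαf := (mem_autGroup_iff_fn hU).1 hα
  have hαi := (mem_autGroup_iff_fn hU).1 (inv_mem hα)
  have hfT : ∀ x ∈ T₁, x ∈ P → autFn α⁻¹ (f x) ∈ T₁ := fun x hx hxP => by
    have h := sc_apply pr.sc₁ hf hxP hx
    exact sc_apply pr.sc₁ hαi (pr.cp.left_le h) h
  have hval : ∀ x ∈ T₁, ∀ y ∈ B, x ∈ P → autFn α⁻¹ (f x) * y ∈ B ⊔ T₁ ∧
      f (x * y) = autFn α (ψ (autFn α⁻¹ (f x) * y)) := by
    intro x hx y hy hxP
    have hu := hfT x hx hxP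
    refine ⟨Subgroup.mul_mem _ (Subgroup.mem_sup_right hu) (Subgroup.mem_sup_left hy), ?_⟩
    rw [hψ.map_mul (Subgroup.mem_sup_right hu) (Subgroup.mem_sup_left hy), hψT _ hu, hψe y hy,
      hαf.map_mul (pr.cp.left_le hu) (pr.cp.right_le (he₂.mem hy)), hαa _ (he₂.mem hy), ← hfe₂ y hy,
      autFn_apply_inv α (pr.cp.left_le (sc_apply pr.sc₁ hf hxP hx)), hf.map_mul hxP hy.2]
  obtain ⟨k, hk, hkψ, hki⟩ := hψ.exists_inv
  set q : Ω → Ω := k ∘ (autFn α⁻¹ ∘ f) with hqdef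
  have hq₁ : ∀ x ∈ T₁, ∀ y ∈ B, x ∈ P → q (x * y) = autFn α⁻¹ (f x) * y := fun x hx y hy hxP => by
    obtain ⟨h, e⟩ := hval x hx y hy hxP
    show k (autFn α⁻¹ (f (x * y))) = _
    rw [e, autFn_inv_apply α (hψ.mem h), hkψ _ h]
  have hsplit : ∀ z ∈ P, ∃ x ∈ T₁, ∃ y ∈ B, x ∈ P ∧ x * y = z := fun z hz => by
    obtain ⟨x, hx, y, hy, rfl⟩ := pr.cp.decomp z (hP hz)
    obtain ⟨hxP, hyP⟩ := hprod x hx y hy hz
    exact ⟨x, hx, y, ⟨hy, hyP⟩, hxP, rfl⟩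
  have hq : Fn F P q := by
    refine (hf.comp hαi fun z hz => sc_apply hscU hf hz (hP hz)).comp (hk.of_subsystem pr.sub) fun z hz => ?_
    obtain ⟨x, hx, y, hy, hxP, rfl⟩ := hsplit z hz
    obtain ⟨h, e⟩ := hval x hx y hy hxP
    show autFn α⁻¹ (f (x * y)) ∈ _
    rw [e, autFn_inv_apply α (hψ.mem h)]
    exact mem_img_of_mem h
  refine pr.dec_of_factor hα hψ (fun z hz => ?_) (fun z hz => ?_) ?_ (q := q)
  · obtain ⟨x, hx, y, hy, hxP, rfl⟩ := hsplit z hz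
    rw [hq₁ x hx y hy hxP]
    exact (hval x hx y hy hxP).1
  · obtain ⟨x, hx, y, hy, hxP, rfl⟩ := hsplit z hz
    rw [hq₁ x hx y hy hxP]
    exact (hval x hx y hy hxP).2
  have hlt : B < T₂ := lt_of_le_of_ne inf_le_left fun e => hx (inf_eq_left.1 e)
  obtain ⟨n, hn, hnn, hnB⟩ := exists_mem_normalizer_not_mem pr.isp pr.sc₂.1 hlt
  have hc : ∀ x ∈ T₁, n * x = x * n := fun x hx => (pr.cp.commute x hx n hn).symm
  have hconj : ∀ x ∈ T₁, ∀ y : Ω, n * (x * y) * n⁻¹ = x * (n * y * n⁻¹) := fun x hx y => by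
    rw [← mul_assoc n x y, hc x hx]
    group
  have hnP : n ∈ Subgroup.normalizer (P : Set Ω) := mem_normalizer_of_map_le fun z hz => by
    obtain ⟨x, hx, y, hy, hxP, rfl⟩ := hsplit z hz
    rw [hconj x hx y]
    exact P.mul_mem hxP ((mem_normalizer_iff'.1 hnn.2).1 y hy).2
  refine pr.dec_of_normalizer hP hW hq (pr.cp.right_le hn) hnP (fun h => hnB ⟨hn, h⟩) (fun z hz => ?_) ih
  obtain ⟨x, hx, y, hy, hxP, rfl⟩ := hsplit z hz
  rw [hconj x hx y, hq₁ x hx _ ((mem_normalizer_iff'.1 hnn.2).1 y hy) hxP, hq₁ x hx y hy hxP,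
    hconj _ (hfT x hx hxP) y, inv_mul_cancel]
  exact one_mem _

/-- Every map of the ambient system on the product is an automorphism following a map of the product. -/
theorem dec {P : Subgroup Ω} (hP : P ≤ U) {f : Ω → Ω} (hf : Fn F P f) : Dec F D P f := by
  have hscU := pr.sc
  haveI := finite_of_le_base hscU.1
  revert f
  refine induction_down (S := U) (C := fun P => ∀ {f : Ω → Ω}, Fn F P f → Dec F D P f) P hP ?_
  intro P hP ih f hf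
  haveI := finite_of_le_base (hP.trans hscU.1)
  have ih' : ∀ R ≤ U, Nat.card P < Nat.card R → ∀ f, Fn F R f → Dec F D R f := fun R hR h f => ih R hR h
  rcases eq_or_lt_of_le hP with rfl | hlt
  · obtain ⟨α, hα, hαe⟩ := exists_aut_of_fn hf (hf.img_eq_self fun x hx => sc_apply hscU hf hx hx)
    exact ⟨α, hα, id, fn_id le_rfl, fun x hx => (hαe ⟨x, hx⟩).symm.trans (autFn_coe α ⟨x, hx⟩).symm⟩
  by_cases hW : T₁ ⊓ T₂ ≤ P
  swap
  · obtain ⟨g, hg, hge, -⟩ := (normal_iff_fn.1 pr.inf_normal).2 P f hf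
    have hR : P ⊔ (T₁ ⊓ T₂) ≤ U := sup_le hP (inf_le_left.trans pr.cp.left_le)
    haveI := finite_of_le_base (hR.trans hscU.1)
    have hc : Nat.card P < Nat.card (P ⊔ (T₁ ⊓ T₂) : Subgroup Ω) :=
      Set.Finite.card_lt_card (Set.toFinite ((P ⊔ (T₁ ⊓ T₂) : Subgroup Ω) : Set Ω))
        (SetLike.coe_ssubset_coe.2 <| lt_of_le_of_ne le_sup_left fun e => hW (e ▸ le_sup_right))
    exact ((ih' _ hR hc g hg).mono le_sup_left).congr hge
  by_cases h₁ : T₁ ⊓ (P ⊔ T₂) ≤ P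
  swap
  · exact pr.dec_projection hP hW h₁ hf ih'
  by_cases h₂ : T₂ ⊓ (P ⊔ T₁) ≤ P
  swap
  · exact pr.symm.dec_projection hP (inf_comm T₂ T₁ ▸ hW) h₂ hf ih'
  have hprod : ∀ x ∈ T₁, ∀ y ∈ T₂, x * y ∈ P → x ∈ P ∧ y ∈ P := fun x hx y hy hxy =>
    ⟨h₁ ⟨hx, by
        have h := (P ⊔ T₂).mul_mem (Subgroup.mem_sup_left hxy) (Subgroup.inv_mem _ (Subgroup.mem_sup_right hy))
        rwa [mul_inv_cancel_right] at h⟩,
      h₂ ⟨hy, by
        have h := (P ⊔ T₁).mul_mem (Subgroup.inv_mem _ (Subgroup.mem_sup_right hx)) (Subgroup.mem_sup_left hxy)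
        rwa [inv_mul_cancel_left] at h⟩⟩
  by_cases hT₂ : T₂ ≤ P
  swap
  · exact pr.dec_product hP hW hprod hT₂ hf ih'
  by_cases hT₁ : T₁ ≤ P
  swap
  · exact pr.symm.dec_product hP (inf_comm T₂ T₁ ▸ hW)
      (fun y hy x hx h => (hprod x hx y hy (pr.cp.commute x hx y hy ▸ h)).symm) hT₁ hf ih'
  exact absurd (pr.cp.base_eq.le.trans (sup_le hT₁ hT₂)) hlt.not_ge

/-- The product is invariant. -/
theorem invariant : D.IsInvariantIn F :=
  Meet.invariant_of_fn pr.sub pr.sc (fun hg hα => pr.transform hα hg) fun hP hf => pr.dec hP hf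

end Pair

end CfsgLib.Fsys.CompT
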