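import Cfsg.Agent.Lib.FusionSystem.CompTheory.PairInvariant

/-! The product of two commuting normal subsystems is normal. -/

set_option autoImplicit false

namespace CfsgLib.Fsys.CompT

open Cfsg Cfsg.FusionSystem CfsgLib.Fsys.WNR
open Cfsg.FusionSystem (centralizerIn normalizerIn)

universe u

variable {Ω : Type u} [Group Ω] {S T₁ T₂ U : Subgroup Ω} [Finite S] {F : FusionSystem S}
  {E₁ : FusionSystem T₁} {E₂ : FusionSystem T₂} {D : FusionSystem U} {p : ℕ} [Fact p.Prime]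

/-- The automorphism of the first factor extends to the centralizer of the product, fixing the second. -/
def FactorExt (F : FusionSystem S) (T₁ T₂ U : Subgroup Ω) (a : MulAut T₁) : Prop :=
  ∃ h : Ω → Ω, Fn F (U ⊔ centralizerIn S U) h ∧ (∀ x ∈ T₁, h x = autFn a x) ∧ (∀ y ∈ T₂, h y = y) ∧
    ∀ c ∈ centralizerIn S U, c⁻¹ * h c ∈ U ⊓ Subgroup.centralizer (U : Set Ω)

namespace Pair

variable (pr : Pair F E₁ E₂ D p)
include pr

theorem factorExt_img {a : MulAut T₁} {h : Ω → Ω} (hh : Fn F (U ⊔ centralizerIn S U) h)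
    (hha : ∀ x ∈ T₁, h x = autFn a x) (hhT : ∀ y ∈ T₂, h y = y) :
    img h U = U ∧ ∀ x ∈ U ⊔ centralizerIn S U, h x ∈ U ⊔ centralizerIn S U := by
  have hscU := pr.sc
  haveI := finite_of_le_base hscU.1
  have hU : img h U = U := (hh.mono le_sup_left).img_eq_self fun x hx =>
    sc_apply hscU hh (Subgroup.mem_sup_left hx) hx
  refine ⟨hU, fun x hx => ?_⟩
  have h1 := mem_img_of_mem (f := h) hx
  rw [hh.img_sup, hU] at h1
  exact sup_le_sup le_rfl
    (img_le fun c hc => hh.map_centralizer le_sup_left hU (Subgroup.mem_sup_right hc) hc) h1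

/-- The automorphisms of the first factor that extend. -/
def extGroup : Subgroup (MulAut T₁) where
  carrier := {a | a ∈ E₁.autGroup T₁ ∧ FactorExt F T₁ T₂ U a}
  one_mem' := ⟨one_mem _, id, fn_id (sup_le pr.sc.1 centralizerIn_le), fun _ hx => (autFn_id hx).symm,
    fun _ _ => rfl, fun c _ => by rw [id_eq, inv_mul_cancel]; exact one_mem _⟩
  mul_mem' := by
    rintro a b ⟨haE, h, hh, hha, hhT, hhd⟩ ⟨hbE, k, hk, hkb, hkT, hkd⟩
    obtain ⟨hhU, -⟩ := pr.factorExt_img hh hha hhT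
    obtain ⟨-, hkV⟩ := pr.factorExt_img hk hkb hkT
    refine ⟨mul_mem haE hbE, h ∘ k, hk.comp hh hkV, fun x hx => ?_, fun y hy => ?_, fun c hc => ?_⟩
    · show h (k x) = _
      rw [hkb x hx, hha _ (autFn_mem b hx), autFn_mul a b hx]
    · show h (k y) = y
      rw [hkT y hy, hhT y hy]
    · show c⁻¹ * h (k c) ∈ _
      have hd := hkd c hc
      have hdV : c⁻¹ * k c ∈ U ⊔ centralizerIn S U := Subgroup.mem_sup_left hd.1
      rw [← mul_inv_cancel_left c (k c), hh.map_mul (Subgroup.mem_sup_right hc) hdV, ← mul_assoc]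
      exact Subgroup.mul_mem _ (hhd c hc) ⟨hhU.le (mem_img_of_mem hd.1),
        (hh.map_centralizer le_sup_left hhU hdV ⟨pr.sc.1 hd.1, hd.2⟩).2⟩
  inv_mem' := by
    rintro a ⟨haE, h, hh, hha, hhT, hhd⟩
    obtain ⟨hhU, hhV⟩ := pr.factorExt_img hh hha hhT
    haveI := finite_of_le_base hh.le
    have hi : img h (U ⊔ centralizerIn S U) = U ⊔ centralizerIn S U := hh.img_eq_self hhV
    obtain ⟨k, hk, hkh, -⟩ := hh.exists_inv
    rw [hi] at hk
    refine ⟨inv_mem haE, k, hk, fun x hx => ?_, fun y hy => ?_, fun c hc => ?_⟩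
    · have hx' := autFn_mem a⁻¹ hx
      conv_lhs => rw [← autFn_apply_inv a hx, ← hha _ hx',
        hkh _ (Subgroup.mem_sup_left (pr.cp.left_le hx'))]
    · conv_lhs => rw [← hhT y hy, hkh y (Subgroup.mem_sup_left (pr.cp.right_le hy))]
    · have hC : img h (centralizerIn S U) = centralizerIn S U := by
        haveI := finite_of_le_base (centralizerIn_le : centralizerIn S U ≤ S)
        exact (hh.mono le_sup_right).img_eq_self fun x hx =>
          hh.map_centralizer le_sup_left hhU (Subgroup.mem_sup_right hx) hx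
      obtain ⟨x, hx, rfl⟩ := (hh.mono le_sup_right).mem_img.1 (hC.ge hc)
      rw [hkh x (Subgroup.mem_sup_right hx)]
      have h1 := Subgroup.inv_mem _ (hhd x hx)
      rwa [mul_inv_rev, inv_inv] at h1

theorem coprime_mem_extGroup {a : MulAut T₁} (ha : a ∈ E₁.autGroup T₁)
    (hco : Nat.Coprime (orderOf a) p) : a ∈ pr.extGroup := by
  have hscU := pr.sc
  have hV : T₁ ⊔ centralizerIn S T₁ ≤ S := sup_le pr.sc₁.1 centralizerIn_le
  haveI := finite_of_le_base hscU.1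
  haveI := finite_of_le_base pr.sc₁.1
  obtain ⟨β, hβ, hβa, hβd⟩ := pr.n₁.2 a ha
  obtain ⟨q, hqa, hqco⟩ := CoreLayer.exists_coprime_pow hV le_sup_left (β := β) (a := a)
    (fun w hw => by
      rw [autFn_coe a ⟨w, hw⟩, ← hβa ⟨w, hw⟩]
      exact autFn_coe β ⟨w, Subgroup.mem_sup_left hw⟩) hco
  have hmv : ∀ j : ℕ, ∀ x ∈ centralizerIn S T₁, x⁻¹ * autFn (β ^ j) x ∈ T₁ := fun j => by
    induction j with
    | zero =>
      intro x hx
      rw [pow_zero, autFn_id (Subgroup.mem_sup_right hx), inv_mul_cancel]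
      exact one_mem _
    | succ j ih =>
      intro x hx
      have hxV : x ∈ T₁ ⊔ centralizerIn S T₁ := Subgroup.mem_sup_right hx
      have h1 : x⁻¹ * autFn β x ∈ T₁ := by
        rw [autFn_coe β ⟨x, hxV⟩]
        exact (hβd ⟨x, hxV⟩ hx).1
      have hf := (mem_autGroup_iff_fn hV).1 (pow_mem hβ j)
      rw [pow_succ, autFn_mul _ _ hxV, ← mul_inv_cancel_left x (autFn β x),
        hf.map_mul hxV (Subgroup.mem_sup_left h1), ← mul_assoc]
      exact T₁.mul_mem (ih x hx) (sc_apply pr.sc₁ hf (Subgroup.mem_sup_left h1) h1)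
  have hh := (mem_autGroup_iff_fn hV).1 (pow_mem hβ q)
  have hC₂ : T₂ ≤ centralizerIn S T₁ := fun y hy => mem_centralizerIn.2
    ⟨pr.sc₂.1 hy, fun x hx => pr.cp.commute x hx y hy⟩
  have hfix : ∀ y ∈ T₂, autFn (β ^ q) y = y := fun y hy => by
    have hyV : y ∈ T₁ ⊔ centralizerIn S T₁ := Subgroup.mem_sup_right (hC₂ hy)
    have hd : y⁻¹ * autFn (β ^ q) y ∈ T₁ ⊓ T₂ :=
      ⟨hmv q y (hC₂ hy), T₂.mul_mem (T₂.inv_mem hy) (sc_apply pr.sc₂ hh hyV hy)⟩
    have h1 := CoreLayer.disp_mem_of_coprime pr.isp hV bot_le hqco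
      (fun r hr => by rw [Subgroup.mem_bot] at hr ⊢; rw [hr]; exact hh.map_one)
      (fun v _ r hr => by simp_all) hyV
      (by
        rw [hqa _ hd.1, fn_fix_center ((mem_autGroup_iff_fn le_rfl).1 ha) hd.1 (pr.c₁ hd), inv_mul_cancel]
        exact one_mem _)
    exact (inv_mul_eq_one.1 (Subgroup.mem_bot.1 h1)).symm
  have hCU : centralizerIn S U ≤ centralizerIn S T₁ := fun c hc => mem_centralizerIn.2
    ⟨centralizerIn_le hc, fun x hx => (mem_centralizerIn.1 hc).2 x (pr.cp.left_le hx)⟩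
  have hle : U ⊔ centralizerIn S U ≤ T₁ ⊔ centralizerIn S T₁ :=
    sup_le (pr.cp.base_eq.le.trans (sup_le_sup le_rfl hC₂)) (hCU.trans le_sup_right)
  have hhU := hh.mono hle
  obtain ⟨hU, -⟩ := pr.factorExt_img hhU hqa hfix
  refine ⟨ha, _, hhU, hqa, hfix, fun c hc => ⟨pr.cp.left_le (hmv q c (hCU hc)), ?_⟩⟩
  exact Subgroup.mul_mem _ (Subgroup.inv_mem _ hc.2)
    (hhU.map_centralizer le_sup_left hU (Subgroup.mem_sup_right hc) hc).2

theorem autGroup_le_extGroup : E₁.autGroup T₁ ≤ pr.extGroup := by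
  have hscU := pr.sc
  haveI := finite_of_le_base pr.sc₁.1
  have hp := pr.isp.to_le pr.sc₁.1
  intro a ha
  obtain ⟨b, hb, γ, hγ, rfl⟩ := exists_residual_decomp hp pr.n₁.1.1 (fullyAutomized_top pr.n₁.1.1) ha
  refine mul_mem ?_ ?_
  · have hle : pResidual p (E₁.autGroup T₁) ≤ pr.extGroup.comap (E₁.autGroup T₁).subtype :=
      (Subgroup.closure_le _).2 fun c hc =>
        pr.coprime_mem_extGroup c.2 (by
          show Nat.Coprime (orderOf (c : MulAut T₁)) p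
          rw [Subgroup.orderOf_coe]
          exact hc)
    exact hle hb
  · obtain ⟨t, ht, hte⟩ := mem_autInducedBy.1 hγ
    refine ⟨autInducedBy_le_autGroup le_rfl hγ, _,
      fn_conj (F := F) (sup_le hscU.1 centralizerIn_le) (pr.sc₁.1 ht), fun x hx => ?_, fun y hy => ?_,
      fun c hc => ?_⟩
    · rw [autFn_coe γ ⟨x, hx⟩]
      exact (hte ⟨x, hx⟩).symm
    · show t * y * t⁻¹ = y
      rw [pr.cp.commute t ht y hy, mul_inv_cancel_right]
    · show c⁻¹ * (t * c * t⁻¹) ∈ _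
      rw [(mem_centralizerIn.1 hc).2 t (pr.cp.left_le ht), mul_inv_cancel_right, inv_mul_cancel]
      exact one_mem _

theorem exists_factor_aut {α : MulAut U} (hα : α ∈ D.autGroup U) :
    ∃ a₁ ∈ E₁.autGroup T₁, ∃ a₂ ∈ E₂.autGroup T₂, ∀ x ∈ T₁, ∀ y ∈ T₂,
      autFn α (x * y) = autFn a₁ x * autFn a₂ y := by
  haveI := finite_of_le_base pr.sc₁.1
  haveI := finite_of_le_base pr.sc₂.1
  obtain ⟨-, P₁, P₂, f₁, f₂, h₁, h₂, hfe⟩ := pr.cp.elim U _ ((mem_autGroup_iff_fn le_rfl).1 hα)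
  have hP₁ : T₁ ≤ P₁ := fun x hx => (hfe x hx 1 (one_mem _) (by rw [mul_one]; exact pr.cp.left_le hx)).1
  have hP₂ : T₂ ≤ P₂ := fun y hy => (hfe 1 (one_mem _) y hy (by rw [one_mul]; exact pr.cp.right_le hy)).2.1
  obtain ⟨a₁, ha₁, ha₁e⟩ := exists_aut_of_fn (h₁.mono hP₁) ((h₁.mono hP₁).img_eq_self fun x hx => h₁.mem (hP₁ hx))
  obtain ⟨a₂, ha₂, ha₂e⟩ := exists_aut_of_fn (h₂.mono hP₂) ((h₂.mono hP₂).img_eq_self fun x hx => h₂.mem (hP₂ hx))
  refine ⟨a₁, ha₁, a₂, ha₂, fun x hx y hy => ?_⟩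
  rw [(hfe x hx y hy (U.mul_mem (pr.cp.left_le hx) (pr.cp.right_le hy))).2.2, autFn_coe a₁ ⟨x, hx⟩, ha₁e,
    autFn_coe a₂ ⟨y, hy⟩, ha₂e]

/-- The product is a normal subsystem. -/
theorem normal (hD : D.IsSaturated p) : D.IsNormalIn F p := by
  have hscU := pr.sc
  refine ⟨⟨hD, pr.sat, pr.invariant⟩, fun α hα => ?_⟩
  obtain ⟨a₁, ha₁, a₂, ha₂, hαe⟩ := pr.exists_factor_aut hα
  obtain ⟨-, h, hh, hha, hhT, hhd⟩ := pr.autGroup_le_extGroup ha₁
  obtain ⟨-, k, hk, hka, hkT, hkd⟩ := pr.symm.autGroup_le_extGroup ha₂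
  obtain ⟨hhU, hhV⟩ := pr.factorExt_img hh hha hhT
  obtain ⟨hkU, hkV⟩ := pr.symm.factorExt_img hk hka hkT
  have hV : U ⊔ centralizerIn S U ≤ S := sup_le hscU.1 centralizerIn_le
  haveI := finite_of_le_base hV
  have hc : Fn F (U ⊔ centralizerIn S U) (h ∘ k) := hk.comp hh hkV
  obtain ⟨β, hβ, hβe⟩ := exists_aut_of_fn hc (hc.img_eq_self fun x hx => hhV _ (hkV x hx))
  refine ⟨β, hβ, fun z => ?_, fun c hcC => ?_⟩
  · obtain ⟨x, hx, y, hy, e⟩ := pr.cp.decomp z z.2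
    rw [hβe, ← autFn_coe]
    show h (k (z : Ω)) = autFn α z
    rw [← e, hk.map_mul (Subgroup.mem_sup_left (pr.cp.left_le hx)) (Subgroup.mem_sup_left (pr.cp.right_le hy)),
      hkT x hx, hka y hy, hh.map_mul (Subgroup.mem_sup_left (pr.cp.left_le hx))
        (Subgroup.mem_sup_left (pr.cp.right_le (autFn_mem a₂ hy))), hha x hx, hhT _ (autFn_mem a₂ hy), hαe x hx y hy]
  · rw [hβe c]
    have hd := hkd c hcC
    have hdV : (c : Ω)⁻¹ * k c ∈ U ⊔ centralizerIn S U := Subgroup.mem_sup_left hd.1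
    show (c : Ω)⁻¹ * h (k c) ∈ _
    rw [← mul_inv_cancel_left (c : Ω) (k c), hh.map_mul c.2 hdV, ← mul_assoc]
    exact Subgroup.mul_mem _ (hhd c hcC) ⟨hhU.le (mem_img_of_mem hd.1),
      (hh.map_centralizer le_sup_left hhU hdV ⟨hscU.1 hd.1, hd.2⟩).2⟩

end Pair

variable {hS : IsPGroup p S}

/-- A central product of commuting normal subsystems is normal. -/
theorem centralProduct_normal (hS : IsPGroup p S) (h₁ : E₁.IsNormalIn F p) (h₂ : E₂.IsNormalIn F p)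
    (c₁ : T₁ ⊓ T₂ ≤ E₁.center) (c₂ : T₁ ⊓ T₂ ≤ E₂.center) (h : IsCentralProductOf E₁ E₂ D) :
    D.IsNormalIn F p := by
  have hT₁ := h₁.1.2.2.2.1
  have hT₂ := h₂.1.2.2.2.1
  haveI := finite_of_le_base hT₁.1
  haveI := finite_of_le_base hT₂.1
  have hcp := cpData h
  have hc₁ : FixesBy F E₁ T₂ := fixesBy_of_commute hS h₁ hT₂ hcp.commute c₁
  have hc₂ : FixesBy F E₂ T₁ :=
    fixesBy_of_commute hS h₂ hT₁ hcp.symm.commute (inf_comm T₂ T₁ ▸ c₂)
  exact Pair.normal ⟨hS, h₁, h₂, hcp, c₁, c₂, hcp.sub_of_fixesBy hc₁ hc₂⟩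
    (cp_saturated (hS.to_le hT₁.1) (hS.to_le hT₂.1) h₁.1.1 h₂.1.1 h)

/-- Commuting normal subsystems meeting centrally have a normal central product. -/
theorem exists_normal_product (hS : IsPGroup p S) (h₁ : E₁.IsNormalIn F p) (h₂ : E₂.IsNormalIn F p)
    (hcomm : ∀ x ∈ T₁, ∀ y ∈ T₂, x * y = y * x) (c₁ : T₁ ⊓ T₂ ≤ E₁.center) (c₂ : T₁ ⊓ T₂ ≤ E₂.center) :
    ∃ D : FusionSystem (T₁ ⊔ T₂), D.IsNormalIn F p ∧ IsCentralProductOf E₁ E₂ D := by
  haveI := finite_of_le_base h₁.1.2.2.2.1.1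
  haveI := finite_of_le_base h₂.1.2.2.2.1.1
  obtain ⟨D, hD⟩ := exists_centralProduct hcomm c₁ c₂
  exact ⟨D, centralProduct_normal hS h₁ h₂ c₁ c₂ hD, hD⟩

/-- Commuting normal subsystems have a normal subsystem over the product of their bases. -/
theorem exists_normal_over_product (hS : IsPGroup p S) (hF : F.IsSaturated p) (h₁ : E₁.IsNormalIn F p)
    (h₂ : E₂.IsNormalIn F p) (hcomm : ∀ x ∈ T₁, ∀ y ∈ T₂, x * y = y * x) :
    ∃ D : FusionSystem (T₁ ⊔ T₂), D.IsNormalIn F p := by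
  have hT₁ := h₁.1.2.2.2.1
  have hT₂ := h₂.1.2.2.2.1
  set W := T₁ ⊓ T₂
  have hscW : F.StronglyClosed W := stronglyClosed_iff_fn.2 ⟨inf_le_left.trans hT₁.1, fun _ _ hf _ hx h =>
    ⟨sc_apply hT₁ hf hx h.1, sc_apply hT₂ hf hx h.2⟩⟩
  have hWn : F.IsNormal W := normal_of_abelian hS hF hscW fun x hx y hy => hcomm x hx.1 y hy.2
  obtain ⟨H, hH, hHn⟩ := CoreLayer.exists_normal_centralizer hS hF hWn
  have hle₁ : T₁ ≤ centralizerIn S W := fun x hx =>
    mem_centralizerIn.2 ⟨hT₁.1 hx, fun w hw => (hcomm x hx w hw.2).symm⟩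
  have hle₂ : T₂ ≤ centralizerIn S W := fun y hy =>
    mem_centralizerIn.2 ⟨hT₂.1 hy, fun w hw => hcomm w hw.1 y hy⟩
  have key : ∀ {R : Subgroup Ω} {E : FusionSystem R}, E.IsNormalIn F p → W ≤ R → R ≤ centralizerIn S W →
      ∃ E' : FusionSystem R, E'.IsNormalIn F p ∧ W ≤ E'.center := by
    intro R E hE hWR hR
    have st : Meet.Setup F E H p := ⟨hS, hE.1, hHn.1⟩
    suffices h : W ≤ (Meet.meetSys st).center by
      have hcast : ∀ {R' : Subgroup Ω}, R' = R → ∀ (M : FusionSystem R'), M.IsNormalIn F p → W ≤ M.center →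
          ∃ E' : FusionSystem R, E'.IsNormalIn F p ∧ W ≤ E'.center := by
        rintro R' rfl M h1 h2
        exact ⟨M, h1, h2⟩
      exact hcast (inf_eq_left.2 hR) _ (Meet.meetSys_normal_base st) h
    have hb := (Meet.meetSys_normal_base st).1.2.2.2.1
    haveI := finite_of_le_base hb.1
    have hN := CoreLayer.normal_inf hS hWn hb (Meet.meetSys_sub st) (Meet.meetSys_saturated st)
    rw [inf_eq_left.2 (le_inf hWR (hWR.trans hR))] at hN
    refine central_of_normal_fixed hN fun P f hf x hx hxW => ?_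
    obtain ⟨-, -, g, -, hge, hgW⟩ := (fn_centralizer hH).1 (hf.of_subsystem (Meet.meetSys_sub_right st))
    rw [← hge x hx, hgW x hxW]
  obtain ⟨E₁', hE₁', hc₁⟩ := key h₁ inf_le_left hle₁
  obtain ⟨E₂', hE₂', hc₂⟩ := key h₂ inf_le_right hle₂
  obtain ⟨D, hD, -⟩ := exists_normal_product hS hE₁' hE₂' hcomm hc₁ hc₂
  exact ⟨D, hD⟩

end CfsgLib.Fsys.CompT
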