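import Cfsg.Agent.Lib.FusionSystem.Meet.Main
import Cfsg.Agent.Lib.FusionSystem.Components
import Cfsg.Agent.Lib.FusionSystem.LeastNormal

/-! Weakly normal subsystems of quasisimple systems. -/

set_option autoImplicit false

namespace CfsgLib.Fsys.CompT

open Cfsg Cfsg.FusionSystem CfsgLib.Fsys.WNR
open Cfsg.FusionSystem (centralizerIn normalizerIn imageAlong preimageAlong)

universe u

variable {Ω : Type u} [Group Ω] {S V : Subgroup Ω} [Finite S] {F : FusionSystem S} {p : ℕ} [Fact p.Prime]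

omit [Fact p.Prime] in
/-- A system is normal in itself. -/
theorem normalIn_self (hF : F.IsSaturated p) : F.IsNormalIn F p := by
  refine ⟨⟨hF, hF, Meet.invariant_of_fn (fun _ _ h => h) sc_top ?_ fun {P f} _ hf => ?_⟩, fun α hα => ?_⟩
  · intro P g α hg hα
    have hα' := (mem_autGroup_iff_fn le_rfl).1 hα
    have hαi : Fn F (img (autFn α) P) (autFn α⁻¹) :=
      ((mem_autGroup_iff_fn le_rfl).1 (inv_mem hα)).mono (img_le fun x hx => autFn_mem α (hg.le hx))
    refine ⟨autFn α ∘ (g ∘ autFn α⁻¹), (hαi.comp hg fun y hy => ?_).comp hα' fun y hy => hg.mem ?_,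
      fun x hx => ?_⟩
    · obtain ⟨x, hx, rfl⟩ := (hα'.mono hg.le).mem_img.1 hy
      rwa [autFn_inv_apply α (hg.le hx)]
    · obtain ⟨x, hx, rfl⟩ := (hα'.mono hg.le).mem_img.1 hy
      rwa [autFn_inv_apply α (hg.le hx)]
    · show autFn α (g (autFn α⁻¹ (autFn α x))) = _
      rw [autFn_inv_apply α (hg.le hx)]
  · exact ⟨1, one_mem _, f, hf, fun x hx => (autFn_id (hf.mem hx)).symm⟩
  · have hle : S ⊔ centralizerIn S S ≤ S := sup_le le_rfl centralizerIn_le
    haveI := finite_of_le_base hle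
    have hαf := ((mem_autGroup_iff_fn le_rfl).1 hα).mono hle
    have hαS : img (autFn α) S = S := img_autFn α
    obtain ⟨β, hβ, hβe⟩ := exists_aut_of_fn hαf (hαf.img_eq_self fun x hx =>
      Subgroup.mem_sup_left (autFn_mem α (hle hx)))
    refine ⟨β, hβ, fun x => ?_, fun c hc => ?_⟩
    · rw [hβe]
      exact autFn_coe α x
    · rw [hβe]
      have h := ((mem_autGroup_iff_fn le_rfl).1 hα).map_centralizer le_rfl hαS (centralizerIn_le hc) hc
      exact ⟨S.mul_mem (S.inv_mem (centralizerIn_le hc)) h.1,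
        Subgroup.mul_mem _ (Subgroup.inv_mem _ hc.2) h.2⟩

omit [Fact p.Prime] in
/-- The maps fix the central elements of their sources. -/
theorem fn_fix_center {P : Subgroup Ω} {f : Ω → Ω} (hf : Fn F P f) {z : Ω} (hz : z ∈ P) (hzc : z ∈ F.center) :
    f z = z := by
  obtain ⟨ψ, -, hψf, hψZ⟩ := (central_iff_fn.1 (center_central (F := F))).2 P f hf
  rw [← hψf z hz, hψZ z hzc]

set_option maxHeartbeats 800000 in
/-- A weakly normal subsystem of a quasisimple system is over a central subgroup or is the whole system. -/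
theorem eq_or_le_center (hS : IsPGroup p S) (hq : F.Quasisimple p) {N : FusionSystem V}
    (hN : N.IsWeaklyNormalIn F p) : V ≤ F.center ∨ (V = S ∧ ∀ P : Subgroup Ω, N.Hom P = F.Hom P) := by
  classical
  obtain ⟨hF, hhyp, hsimp⟩ := hq
  obtain ⟨hNs, -, hNi⟩ := id hN
  have hV := hNi.2.1
  have hVS : V ≤ S := hV.1
  haveI := finite_of_le_base hVS
  have hVp := hS.to_le hVS
  have hsc := (Comp.center_normal_sc (F := F)).2
  obtain ⟨E, hE⟩ := exists_factorSystem (S' := ⊤) hsc (QuotientGroup.mk' ((F.center).subgroupOf S))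
    (fun s => (QuotientGroup.eq_one_iff s).trans Subgroup.mem_subgroupOf)
    (MonoidHom.range_eq_top.2 (QuotientGroup.mk'_surjective _))
  set θ := QuotientGroup.mk' ((F.center).subgroupOf S)
  have hm := factor_surjectiveMorphism hS hF hsc hE
  obtain ⟨-, -, hsimple⟩ := hsimp E hE
  haveI := finite_target hm
  have hEp : IsPGroup p (⊤ : Subgroup (S ⧸ (F.center).subgroupOf S)) := (hS.to_quotient _).to_subgroup _
  -- the image
  set θ' : V →* S ⧸ (F.center).subgroupOf S := θ.comp (Subgroup.inclusion hVS) with hθ'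
  have hth : ∀ {x : Ω}, x ∈ V → th θ' x = th θ x := fun {x} hx => by
    rw [th_apply hx, th_apply (hVS hx)]
    rfl
  have hrange : ∀ {y}, y ∈ θ'.range → ∃ x ∈ V, th θ x = y := fun {y} ⟨x, hx⟩ =>
    ⟨x, x.2, by rw [← hth x.2, th_coe]; exact hx⟩
  have hscN : N.StronglyClosed (V ⊓ F.center) := stronglyClosed_iff_fn.2
    ⟨inf_le_left, fun P f hf x hx h => ⟨hf.mem hx, sc_apply hsc (hf.of_subsystem hNi.1) hx h.2⟩⟩
  obtain ⟨E', hE'⟩ := exists_factorSystem hscN θ'
    (fun v => by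
      refine ((QuotientGroup.eq_one_iff (Subgroup.inclusion hVS v)).trans Subgroup.mem_subgroupOf).trans ?_
      exact ⟨fun h => ⟨v.2, h⟩, fun h => h.2⟩) rfl
  have hm' := factor_surjectiveMorphism hVp hNs hscN hE'
  have hE's := surjectiveMorphism_saturated hVp hNs hm'
  haveI := finite_target hm'
  have hrep : ∀ {P'}, P' ≤ θ'.range → ∀ y ∈ P', ∃ x ∈ preimageAlong θ' P', x ∈ V ∧ th θ x = y := by
    intro P' hP' y hy
    obtain ⟨x, hx, hxy⟩ := hrange (hP' hy)
    exact ⟨x, mem_preimageAlong.2 ⟨hx, by rw [hth hx, hxy]; exact hy⟩, hx, hxy⟩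
  have hsub : E'.IsSubsystemOf E := by
    intro P' φ' hφ'
    obtain ⟨hP', g, hg, hge⟩ := (factor_fn hscN hE').1 (fn_ofHom hφ')
    obtain ⟨g', hg', hge'⟩ := morphism_fn hm.1 (hg.of_subsystem hNi.1)
    refine mem_hom_iff.2 ((hg'.mono fun y hy => ?_).congr fun y hy => ?_)
    · obtain ⟨x, hx, hxV, rfl⟩ := hrep hP' y hy
      exact th_mem_imageAlong hx (hVS hxV)
    · obtain ⟨x, hx, hxV, rfl⟩ := hrep hP' y hy
      rw [hge' x hx, ← hth hxV, hge x hx, hth (hg.mem hx)]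
  have hscE : E.StronglyClosed θ'.range := stronglyClosed_iff_fn.2 ⟨le_top, fun P f' hf' y hy hyV => by
    obtain ⟨f, hf, hfe⟩ := surjective_fn hm hf'
    obtain ⟨x, hx, rfl⟩ := hrange hyV
    have hxP : x ∈ preimageAlong θ P := mem_preimageAlong.2 ⟨hVS hx, hy⟩
    rw [hfe x hxP, ← hth (sc_apply hV hf hxP hx)]
    exact th_mem_range (sc_apply hV hf hxP hx)⟩
  have hmem : ∀ {P'}, ∀ x ∈ preimageAlong θ' P', x ∈ preimageAlong θ P' := fun {P'} x hx => by
    obtain ⟨hxV, h⟩ := mem_preimageAlong.1 hx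
    exact mem_preimageAlong.2 ⟨hVS hxV, hth hxV ▸ h⟩
  have hinv : E'.IsInvariantIn E := by
    refine Meet.invariant_of_fn hsub hscE ?_ ?_
    · intro P g α hg hα
      obtain ⟨a, ha, hae⟩ := surjective_fn hm ((mem_autGroup_iff_fn le_top).1 hα)
      have hVle : V ≤ preimageAlong θ θ'.range := fun x hx =>
        mem_preimageAlong.2 ⟨hVS hx, hth hx ▸ th_mem_range hx⟩
      obtain ⟨αV, hαV, hαVe⟩ := exists_aut_of_fn (ha.mono hVle)
        ((ha.mono hVle).img_eq_self fun x hx => sc_apply hV ha (hVle hx) hx)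
      have hαa : ∀ x ∈ V, autFn αV x = a x := fun x hx => (autFn_coe αV ⟨x, hx⟩).trans (hαVe _)
      obtain ⟨hP', g₀, hg₀, hg₀e⟩ := (factor_fn hscN hE').1 hg
      obtain ⟨χ₀, hχ₀, hχ₀e⟩ := Invariant.aut hNi hg₀.le hg₀ hαV
      obtain ⟨χ, hχ, hχe⟩ := morphism_fn hm'.1 hχ₀
      refine ⟨χ, hχ.mono (img_le fun y hy => ?_), fun y hy => ?_⟩
      · obtain ⟨x, hx, hxV, rfl⟩ := hrep hP' y hy
        rw [hae x (hVle hxV), ← hαa x hxV, ← hth (autFn_mem αV hxV)]
        exact th_mem_imageAlong (mem_img_of_mem hx) (autFn_mem αV hxV)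
      · obtain ⟨x, hx, hxV, rfl⟩ := hrep hP' y hy
        have h1 := hχe _ (mem_img_of_mem (f := autFn αV) hx)
        have hgx : g₀ x ∈ V := hg₀.mem hx
        rw [hχ₀e x hx, hth (autFn_mem αV hxV), hth (autFn_mem αV hgx), hαa x hxV, hαa _ hgx,
          ← hae x (hVle hxV), ← hae _ (hVle hgx), ← hth hgx, ← hg₀e x hx, hth hxV] at h1
        exact h1
    · intro P f hP hf
      obtain ⟨f₀, hf₀, hfe⟩ := surjective_fn hm hf
      set Q := preimageAlong θ' P
      have hQV : Q ≤ V := preimageAlong_le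
      obtain ⟨αV, hαV, g₀, hg₀, hfg⟩ := Invariant.frattini hNi hQV (hf₀.mono hmem)
      obtain ⟨a, ha, hae⟩ := morphism_fn hm.1 ((mem_autGroup_iff_fn hVS).1 hαV)
      have hVle : θ'.range ≤ imageAlong θ V := fun y hy => by
        obtain ⟨x, hx, rfl⟩ := hrange hy
        exact th_mem_imageAlong hx (hVS hx)
      haveI := finite_of_le_base (le_top : θ'.range ≤ ⊤)
      obtain ⟨α, hα, hαe⟩ := exists_aut_of_fn (ha.mono hVle) ((ha.mono hVle).img_eq_self fun y hy => by
        obtain ⟨x, hx, rfl⟩ := hrange hy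
        rw [hae x hx, ← hth (autFn_mem αV hx)]
        exact th_mem_range (autFn_mem αV hx))
      obtain ⟨g, hg, hge⟩ := morphism_fn hm'.1 hg₀
      refine ⟨α, hα, g, hg.mono fun y hy => ?_, fun y hy => ?_⟩
      · obtain ⟨x, hx, hxV, rfl⟩ := hrep hP y hy
        rw [← hth hxV]
        exact th_mem_imageAlong hx hxV
      · obtain ⟨x, hx, hxV, rfl⟩ := hrep hP y hy
        have hgx : g₀ x ∈ V := hg₀.mem hx
        rw [hfe x (hmem x hx), hfg x hx, ← hth hxV, hge x hx, hth hgx,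
          autFn_coe α ⟨th θ (g₀ x), hth hgx ▸ th_mem_range hgx⟩, hαe]
        exact (hae _ hgx).symm
  obtain ⟨D, hD⟩ := exists_pPrimeResidual (hEp.to_le le_top) hE's
  have hDn := residual_normal hEp ⟨hE's, surjectiveMorphism_saturated hS hF hm, hinv⟩ hD
  rcases hsimple _ _ hDn with h | ⟨h, hhom⟩
  · refine Or.inl fun v hv => (factor_ker hE (hVS hv)).1 (Subgroup.mem_bot.1 (h.le ?_))
    rw [← hth hv]
    exact th_mem_range hv
  refine Or.inr ?_
  -- the base is everything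
  have hSV : V = S := by
    refine le_antisymm hVS ?_
    conv_lhs => rw [← hhyp]
    refine (Subgroup.closure_le _).2 ?_
    rintro _ ⟨P, α, x, hP, -, rfl⟩
    obtain ⟨ψ, hψ, hψe, hψZ⟩ := (central_iff_fn.1 (center_central (F := F))).2 P _
      ((mem_autGroup_iff_fn hP).1 α.2)
    have hxS : (x : Ω) ∈ S := hP x.2
    obtain ⟨v, hv, hvx⟩ := hrange (h.ge (Subgroup.mem_top (th θ (x : Ω))))
    set z := v⁻¹ * (x : Ω) with hz
    have hzZ : z ∈ F.center := (factor_ker hE (S.mul_mem (S.inv_mem (hVS hv)) hxS)).1 (by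
      rw [th_mul (S.inv_mem (hVS hv)) hxS, th_inv (hVS hv), hvx, inv_mul_cancel])
    have hzD : z ∈ P ⊔ F.center := Subgroup.mem_sup_right hzZ
    have hvD : v ∈ P ⊔ F.center := by
      rw [show v = (x : Ω) * z⁻¹ by rw [hz]; group]
      exact Subgroup.mul_mem _ (Subgroup.mem_sup_left x.2) (Subgroup.inv_mem _ hzD)
    have hw : v⁻¹ * ψ v ∈ V := V.mul_mem (V.inv_mem hv) (sc_apply hV hψ hvD hv)
    have hcomm : v⁻¹ * ψ v * z = z * (v⁻¹ * ψ v) :=
      Subgroup.mem_centralizer_iff.1 (F.center_le_centralizer hzZ) _ (hVS hw)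
    show (x : Ω)⁻¹ * (((α : MulAut P) x : P) : Ω) ∈ V
    rw [← autFn_coe, ← hψe x x.2, show (x : Ω) = v * z from (mul_inv_cancel_left v (x : Ω)).symm,
      hψ.map_mul hvD hzD, hψZ z hzZ, show (v * z)⁻¹ * (ψ v * z) = z⁻¹ * (v⁻¹ * ψ v * z) by group, hcomm,
      inv_mul_cancel_left]
    exact hw
  refine ⟨hSV, fun P => Set.Subset.antisymm (hNi.1 P) fun φ hφ => ?_⟩
  subst hSV
  have hEE' : ∀ {P' f'}, Fn E P' f' → Fn E' P' f' := fun {P' f'} hf' => by
    obtain ⟨ψ, hψ, hψe⟩ := hf'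
    exact ⟨ψ, hD.2.1.1 _ ((hhom P').symm ▸ hψ), hψe⟩
  have key : ∀ Q : Subgroup Ω, F.IsCentric Q → F.center ≤ Q → F.autGroup Q ≤ N.autGroup Q := by
    intro Q hQc hZQ a ha
    haveI := finite_of_le_base hQc.1
    haveI := finite_of_le_base (hZQ.trans hQc.1)
    obtain ⟨a', ha', hae⟩ := morphism_fn hm.1 ((mem_autGroup_iff_fn hQc.1).1 ha)
    obtain ⟨-, d, hd, hde⟩ := (factor_fn hscN hE').1 (hEE' ha')
    have hQle : Q ≤ preimageAlong θ' (imageAlong θ Q) := fun x hx =>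
      mem_preimageAlong.2 ⟨hQc.1 hx, (hth (hQc.1 hx)).symm ▸ th_mem_imageAlong hx (hQc.1 hx)⟩
    have hdQ := hd.mono hQle
    have hdF := hdQ.of_subsystem hNi.1
    have heq : ∀ x ∈ Q, th θ (d x) = th θ (autFn a x) := fun x hx => by
      rw [← hth (hdQ.mem hx), ← hde x (hQle hx), hth (hQc.1 hx), hae x hx]
    have hda : ∀ x ∈ Q, (d x)⁻¹ * autFn a x ∈ F.center := fun x hx =>
      (factor_ker hE (Subgroup.mul_mem _ (Subgroup.inv_mem _ (hdQ.mem hx)) (hQc.1 (autFn_mem a hx)))).1 (by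
        rw [th_mul (Subgroup.inv_mem _ (hdQ.mem hx)) (hQc.1 (autFn_mem a hx)), th_inv (hdQ.mem hx), heq x hx,
          inv_mul_cancel])
    obtain ⟨b, hb, hbe⟩ := exists_aut_of_fn hdQ (hdQ.img_eq_self fun x hx => by
      rw [show d x = autFn a x * ((d x)⁻¹ * autFn a x)⁻¹ by group]
      exact Q.mul_mem (autFn_mem a hx) (Q.inv_mem (hZQ (hda x hx))))
    set δ := b⁻¹ * a
    have hbF := autGroup_mono' hNi.1 Q hb
    have hfix : ∀ {c : MulAut Q}, c ∈ F.autGroup Q → ∀ z ∈ F.center, autFn c z = z := fun {c} hc z hz =>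
      fn_fix_center ((mem_autGroup_iff_fn hQc.1).1 hc) (hZQ hz) hz
    have hmove : ∀ x ∈ Q, x⁻¹ * autFn δ x ∈ F.center := fun x hx => by
      have hbf := (mem_autGroup_iff_fn hQc.1).1 hbF
      have h1 : (autFn b x)⁻¹ * autFn a x ∈ F.center := by
        rw [autFn_coe b ⟨x, hx⟩, hbe]
        exact hda x hx
      have hwQ : x⁻¹ * autFn δ x ∈ Q := Q.mul_mem (Q.inv_mem hx) (autFn_mem δ hx)
      have h2 : autFn b (x⁻¹ * autFn δ x) = (autFn b x)⁻¹ * autFn a x := by
        rw [hbf.map_mul (Q.inv_mem hx) (autFn_mem δ hx), hbf.map_inv hx, ← autFn_mul _ _ hx, mul_inv_cancel_left]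
      have h3 : x⁻¹ * autFn δ x = (autFn b x)⁻¹ * autFn a x :=
        hbf.inj hwQ (hZQ h1) (h2.trans (hfix hbF _ h1).symm)
      exact h3.symm ▸ h1
    have hδp := pow_card_eq_one_of_fix hZQ (hfix (mul_mem (inv_mem hbF) ha)) hmove
    obtain ⟨j, hj⟩ := IsPGroup.iff_card.1 (hS.to_le (hZQ.trans hQc.1))
    rw [hj] at hδp
    have hδN := pElement_mem hS (normalIn_self hF).1 hNi hQc.1 (mul_mem (inv_mem hbF) ha) hδp
    have := mul_mem hb hδN
    rwa [mul_inv_cancel_left] at this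
  refine alperin hS hF N (key _ (centric_top F) (center_central (F := F)).1) (fun Q hQ hess => ?_) P hφ
  exact key Q hess.1 (normal_le_centricRadical hS (Comp.center_normal_sc (F := F)).1 hess.1 (essential_radical hS hess))

end CfsgLib.Fsys.CompT
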