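import Cfsg.Agent.Lib.FusionSystem.CompTheory.Quasisimple
import Cfsg.Agent.Lib.FusionSystem.CoreLayer
import Cfsg.Agent.Lib.FusionSystem.Models

/-! Components and weakly normal subsystems; the layer. -/

set_option autoImplicit false

namespace CfsgLib.Fsys.CompT

open Cfsg Cfsg.FusionSystem CfsgLib.Fsys.WNR
open Cfsg.FusionSystem (centralizerIn normalizerIn)

universe u

variable {Ω : Type u} [Group Ω] {S T U : Subgroup Ω} {F : FusionSystem S} {C : FusionSystem U}
  {D : FusionSystem T} {p : ℕ} [Fact p.Prime]

/-- A quasisimple subnormal subsystem is subnormal in a weakly normal subsystem or meets it centrally. -/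
theorem subnormal_or_central {q : ℕ} (h : C.IsSubnormalIn F q) (hqp : q = p) (hfin : Finite S)
    (hS : IsPGroup p S) (hC : C.Quasisimple p) (hD : D.IsWeaklyNormalIn F p) :
    C.IsSubnormalIn D p ∨ U ⊓ T ≤ C.center := by
  induction h generalizing T with
  | refl G q =>
    subst hqp
    rcases eq_or_le_center hS hC hD with h | ⟨h, hhom⟩
    · exact Or.inr (inf_le_right.trans h)
    · subst h
      obtain rfl : D = G := system_ext hhom
      exact Or.inl (IsSubnormalIn.refl _ _)
  | @step W V C G₁ G q hCG hG ih =>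
    subst hqp
    have st : Meet.Setup G G₁ D q := ⟨hS, hG.1, hD⟩
    have hWV : W ≤ V := subsystem_le hG.1.2.2.1
    haveI := finite_of_le_base hWV
    rcases ih rfl inferInstance (hS.to_le hWV) hC (Meet.meetSys_normal_left st).1 with h | h
    · exact Or.inl (IsSubnormalIn.step h (Meet.meetSys_normal_right st))
    · exact Or.inr fun x hx => h ⟨hx.1, (CoreLayer.subnormal_le hCG).2 hx.1, hx.2⟩

variable [Finite S]

/-- A component is over a nonabelian group, so is not inside its centre. -/
theorem not_le_center (hS : IsPGroup p S) (hC : C.IsComponentIn F p) : ¬ U ≤ C.center := fun h => by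
  have hUS : U ≤ S := (CoreLayer.subnormal_le hC.1).2
  haveI := finite_of_le_base hUS
  refine quasisimple_nonabelian (hS.to_le hUS) hC.2 ⟨⟨fun a b => Subtype.ext ?_⟩⟩
  exact Subgroup.mem_centralizer_iff.1 (C.center_le_centralizer (h b.2)) a a.2

/-- A component inside a weakly normal subsystem is a component of it. -/
theorem component_of_le (hS : IsPGroup p S) (hC : C.IsComponentIn F p) (hD : D.IsWeaklyNormalIn F p)
    (hUT : U ≤ T) : C.IsComponentIn D p :=
  ⟨(subnormal_or_central hC.1 rfl inferInstance hS hC.2 hD).resolve_right fun h =>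
    not_le_center hS hC ((le_inf le_rfl hUT).trans h), hC.2⟩

/-- A component either lies in a weakly normal subsystem or meets it centrally. -/
theorem component_or_central (hS : IsPGroup p S) (hC : C.IsComponentIn F p) (hD : D.IsWeaklyNormalIn F p) :
    C.IsComponentIn D p ∨ U ⊓ T ≤ C.center :=
  (subnormal_or_central hC.1 rfl inferInstance hS hC.2 hD).imp_left fun h => ⟨h, hC.2⟩

/-- Every saturated system has a layer. -/
theorem exists_layer (hS : IsPGroup p S) (hF : F.IsSaturated p) :
    ∃ (T : Subgroup Ω) (E : FusionSystem T), E.IsLayerOf F p := by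
  classical
  have hex : ∃ n, ∃ (T : Subgroup Ω) (E : FusionSystem T), E.IsNormalIn F p ∧
      (∀ (U : Subgroup Ω) (C : FusionSystem U), C.IsComponentIn F p → C.IsSubsystemOf E) ∧
      (Comp.maps E).ncard = n :=
    ⟨_, S, F, normalIn_self hF, fun U C hC => (CoreLayer.subnormal_le hC.1).1, rfl⟩
  obtain ⟨T, E, hE, hEc, hn⟩ := Nat.find_spec hex
  refine ⟨T, E, hE, hEc, fun R D hD hDc P => ?_⟩
  have st : Meet.Setup F E D p := ⟨hS, hE.1, hD.1⟩
  haveI := finite_of_le_base (subsystem_le hE.1.2.2.1)
  have hsub : Comp.maps (Meet.meetSys st) ⊆ Comp.maps E := fun q hq => Meet.meetSys_sub_left st q.1 hq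
  have hle := Nat.find_min' hex ⟨_, _, Meet.meetSys_normal_base st, fun U C hC =>
    (CoreLayer.subnormal_le (component_of_le hS hC (Meet.meetSys_normal_base st).1
      (le_inf (subsystem_le (hEc U C hC)) (subsystem_le (hDc U C hC)))).1).1, rfl⟩
  have heq := Set.eq_of_subset_of_ncard_le hsub (hn ▸ hle) (Comp.maps_finite E)
  intro φ hφ
  have : (⟨P, φ⟩ : Σ P : Subgroup Ω, (P →* Ω)) ∈ Comp.maps (Meet.meetSys st) := heq ▸ hφ
  exact Meet.meetSys_sub_right st P this

end CfsgLib.Fsys.CompT
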